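import Cfsg.Prelude.Def_CaseTheorems
import Cfsg.Prelude.Def_Transfer
import Cfsg.Agent.Lib.PGroups.Omega
import Cfsg.Agent.Lib.PGroups.ElemAb
import Cfsg.Agent.Lib.PGroups.UniqueInvolution

/-!
# Small actions on a normal elementary abelian subgroup of order 8

Tools for bounding the sectional 2-rank through indices `W.relIndex T` with all squares of `T` in `W`.
-/

set_option autoImplicit false

namespace Cfsg.Agent.Lib.HaradaRank

open Subgroup

variable {S : Type*} [Group S]

theorem sectional_of_relIndex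
    (h : ∀ T W : Subgroup S, W ≤ T → (∀ x ∈ T, x * x ∈ W) → W.relIndex T ≤ 16) :
    Cfsg.SectionalPRankLE 2 4 S := by
  intro H N _ A _ hAp
  let T : Subgroup H := A.comap (QuotientGroup.mk' N)
  have hNT : N ≤ T := fun x hx => by
    rw [mem_comap, QuotientGroup.mk'_apply, (QuotientGroup.eq_one_iff x).2 hx]
    exact one_mem _
  have h1 := h (T.map H.subtype) (N.map H.subtype) (map_mono hNT) ?_
  · rw [relIndex_map_map_of_injective _ _ H.subtype_injective] at h1
    have h2 : N.relIndex T = Nat.card A := by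
      have h3 := relIndex_ker T (QuotientGroup.mk' N)
      rw [QuotientGroup.ker_mk'] at h3
      rw [h3, map_comap_eq_self_of_surjective (QuotientGroup.mk'_surjective N)]
    rw [h2] at h1
    exact h1
  · rintro _ ⟨x, hx, rfl⟩
    refine ⟨x * x, ?_, by simp⟩
    have := hAp _ hx
    rw [sq, ← map_mul] at this
    exact (QuotientGroup.eq_one_iff (x * x)).1 this

theorem card_eq_map_mul [Finite S] {Q : Type*} [Group Q] (f : S →* Q) (T : Subgroup S) :
    Nat.card T = Nat.card (T.map f) * Nat.card (T ⊓ f.ker : Subgroup S) := by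
  have h1 := card_mul_index (f.comp T.subtype).ker
  rw [index_ker, MonoidHom.range_comp, range_subtype] at h1
  rw [← h1, mul_comm]
  congr 1
  rw [← card_map_of_injective T.subtype_injective, ← MonoidHom.comap_ker, comap_subtype,
    subgroupOf_map_subtype, inf_comm]

/-- Indices split along a homomorphism. -/
theorem relIndex_split [Finite S] {Q : Type*} [Group Q] [Finite Q] (f : S →* Q)
    {W T : Subgroup S} (hWT : W ≤ T) :
    W.relIndex T = (W.map f).relIndex (T.map f) * (W ⊓ f.ker).relIndex (T ⊓ f.ker) := by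
  have hc : ∀ {G : Type _} [Group G] {A B : Subgroup G}, A ≤ B →
      Nat.card A * A.relIndex B = Nat.card B := fun {G} _ {A B} hAB => by
    have := card_mul_index (A.subgroupOf B)
    rwa [Nat.card_congr (subgroupOfEquivOfLe hAB).toEquiv] at this
  have hc' : ∀ {A B : Subgroup Q}, A ≤ B → Nat.card A * A.relIndex B = Nat.card B :=
    fun {A B} hAB => by
    have := card_mul_index (A.subgroupOf B)
    rwa [Nat.card_congr (subgroupOfEquivOfLe hAB).toEquiv] at this
  have e1 := hc hWT
  have e2 := hc' (map_mono (f := f) hWT)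
  have e3 := hc (inf_le_inf_right f.ker hWT)
  rw [card_eq_map_mul f W, card_eq_map_mul f T, ← e2, ← e3] at e1
  refine Nat.eq_of_mul_eq_mul_left
    (Nat.mul_pos (Nat.card_pos (α := W.map f)) (Nat.card_pos (α := (W ⊓ f.ker : Subgroup S)))) ?_
  linarith [e1]

theorem relIndex_le_card [Finite S] (W T : Subgroup S) : W.relIndex T ≤ Nat.card T :=
  Nat.le_of_dvd Nat.card_pos (index_dvd_card _)

theorem relIndex_mul_two_le [Finite S] {W T : Subgroup S} {w : S} (hWT : W ≤ T) (hw : w ∈ W)
    (hw1 : w ≠ 1) : 2 * W.relIndex T ≤ Nat.card T := by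
  have h1 := card_mul_index (W.subgroupOf T)
  rw [Nat.card_congr (subgroupOfEquivOfLe hWT).toEquiv] at h1
  have h2 : 2 ≤ Nat.card W := by
    by_contra hlt
    have := Nat.card_pos (α := W)
    exact hw1 (by simpa [Subgroup.card_eq_one.1 (show Nat.card W = 1 by omega)] using hw)
  calc 2 * W.relIndex T ≤ Nat.card W * W.relIndex T := Nat.mul_le_mul_right _ h2
    _ = _ := h1

theorem card_map_le_of_values [Finite S] {Q : Type*} [Group Q] [Finite Q] {α : Type*} (π : S →* Q)
    (Y : Subgroup S) (f : S → α) (s : Finset α) (hs : ∀ y ∈ Y, f y ∈ s)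
    (hf : ∀ x ∈ Y, ∀ y ∈ Y, f x = f y → π x = π y) : Nat.card (Y.map π) ≤ s.card := by
  classical
  have hch : ∀ q : Y.map π, ∃ y ∈ Y, π y = (q : Q) := fun q => q.2
  choose y hyY hyq using hch
  have h1 : Function.Injective fun q : Y.map π => (⟨f (y q), hs _ (hyY q)⟩ : s) := by
    intro a b hab
    have := hf _ (hyY a) _ (hyY b) (Subtype.ext_iff.1 hab)
    rw [hyq, hyq] at this
    exact Subtype.ext this
  simpa using Nat.card_le_card_of_injective _ h1

/-- The membership list of a four group. -/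
theorem mem_four [Finite S] {P : Subgroup S} (hP : Nat.card P = 4) {p q x : S} (hp : p ∈ P)
    (hq : q ∈ P) (hp1 : p ≠ 1) (hq1 : q ≠ 1) (hpq : p ≠ q) (hpp : p * p = 1) (hx : x ∈ P) :
    x = 1 ∨ x = p ∨ x = q ∨ x = p * q := by
  classical
  have h1 : ({1, p, q, p * q} : Finset S).card = 4 := by
    have e1 : p * q ≠ 1 := fun h => hpq (mul_left_cancel (hpp.trans h.symm))
    have e2 : p * q ≠ p := fun h => hq1 (mul_eq_left.1 h)
    have e3 : p * q ≠ q := fun h => hp1 (mul_eq_right.1 h)
    simp [hpq, hp1.symm, hq1.symm, e1.symm, e2.symm, e3.symm]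
  have h2 : (({1, p, q, p * q} : Finset S) : Set S) = (P : Set S) := by
    refine Set.eq_of_subset_of_ncard_le ?_ ?_ (Set.toFinite _)
    · intro y hy
      simp only [Finset.coe_insert, Finset.coe_singleton, Set.mem_insert_iff,
        Set.mem_singleton_iff] at hy
      rcases hy with rfl | rfl | rfl | rfl
      · exact P.one_mem
      · exact hp
      · exact hq
      · exact P.mul_mem hp hq
    · rw [Set.ncard_coe_finset, h1, ← Nat.card_coe_set_eq]
      exact le_of_eq hP
  have hx' : x ∈ (({1, p, q, p * q} : Finset S) : Set S) := h2 ▸ hx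
  simpa [Finset.coe_insert] using hx'

theorem mem_or_mem_of_relIndex_two {P B : Subgroup S} (hPB : P.relIndex B = 2) {v x : S}
    (hv : v ∈ B) (hvP : v ∉ P) (hx : x ∈ B) : x ∈ P ∨ v * x ∈ P := by
  by_cases hxP : x ∈ P
  · exact Or.inl hxP
  · refine Or.inr ?_
    have h : (P.subgroupOf B).index = 2 := hPB
    have := (mul_mem_iff_of_index_two h (a := ⟨v, hv⟩) (b := ⟨x, hx⟩)).2
      ⟨fun h' => absurd (mem_subgroupOf.1 h') hvP, fun h' => absurd (mem_subgroupOf.1 h') hxP⟩
    exact mem_subgroupOf.1 this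

theorem relIndex_eq_two_of_card [Finite S] {P B : Subgroup S} (hPB : P ≤ B)
    (h : 2 * Nat.card P = Nat.card B) : P.relIndex B = 2 := by
  have h1 := card_mul_index (P.subgroupOf B)
  rw [Nat.card_congr (subgroupOfEquivOfLe hPB).toEquiv, ← h, mul_comm 2] at h1
  exact Nat.eq_of_mul_eq_mul_left Nat.card_pos h1

/-- The standing hypothesis on the normal subgroup `B`. -/
structure EightNormal (B : Subgroup S) : Prop where
  normal : B.Normal
  comm : ∀ x ∈ B, ∀ y ∈ B, x * y = y * x
  sq : ∀ x ∈ B, x * x = 1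
  card : Nat.card B = 8

namespace EightNormal

variable {B : Subgroup S}

theorem inv_eq (hB : EightNormal B) {x : S} (hx : x ∈ B) : x⁻¹ = x :=
  inv_eq_of_mul_eq_one_right (hB.sq x hx)

theorem conj_mem (hB : EightNormal B) (g : S) {x : S} (hx : x ∈ B) : g * x * g⁻¹ ∈ B :=
  hB.normal.conj_mem x hx g

theorem le_centralizer (hB : EightNormal B) : B ≤ centralizer (B : Set S) :=
  fun x hx y hy => hB.comm y hy x hx

theorem centralizer_normal (hB : EightNormal B) : (centralizer (B : Set S)).Normal := by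
  have := hB.normal
  infer_instance

theorem mem_centralizer {k : S} :
    k ∈ centralizer (B : Set S) ↔ ∀ b ∈ B, k * b * k⁻¹ = b := by
  constructor
  · intro h b hb
    rw [← h b hb, mul_inv_cancel_right]
  · intro h b hb
    calc b * k = (k * b * k⁻¹) * k := by rw [h b hb]
      _ = k * b := inv_mul_cancel_right _ _

/-- Equality of actions from agreement on generators. -/
theorem act_eq (hB : EightNormal B) [Finite S] {P : Subgroup S} (hPB : P ≤ B)
    (hP : Nat.card P = 4) {v : S} (hv : v ∈ B) (hvP : v ∉ P) {g g' : S}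
    (hgP : ∀ p ∈ P, g * p * g⁻¹ = g' * p * g'⁻¹) (hgv : g * v * g⁻¹ = g' * v * g'⁻¹) :
    g'⁻¹ * g ∈ centralizer (B : Set S) := by
  rw [mem_centralizer]
  intro b hb
  have key : g * b * g⁻¹ = g' * b * g'⁻¹ := by
    rcases mem_or_mem_of_relIndex_two
      (relIndex_eq_two_of_card hPB (by rw [hP, hB.card])) hv hvP hb with h | h
    · exact hgP b h
    · have e : b = v * (v * b) := by rw [← mul_assoc, hB.sq v hv, one_mul]
      calc g * b * g⁻¹ = (g * v * g⁻¹) * (g * (v * b) * g⁻¹) := by
            conv_lhs => rw [e]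
            group
        _ = (g' * v * g'⁻¹) * (g' * (v * b) * g'⁻¹) := by rw [hgv, hgP _ h]
        _ = g' * b * g'⁻¹ := by
            conv_rhs => rw [e]
            group
  calc g'⁻¹ * g * b * (g'⁻¹ * g)⁻¹ = g'⁻¹ * (g * b * g⁻¹) * g' := by group
    _ = g'⁻¹ * (g' * b * g'⁻¹) * g' := by rw [key]
    _ = b := by group

theorem mk_eq (hB : EightNormal B) [Finite S] [(centralizer (B : Set S)).Normal] {P : Subgroup S}
    (hPB : P ≤ B) (hP : Nat.card P = 4) {v : S} (hv : v ∈ B) (hvP : v ∉ P) {g g' : S}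
    (hgP : ∀ p ∈ P, g * p * g⁻¹ = g' * p * g'⁻¹) (hgv : g * v * g⁻¹ = g' * v * g'⁻¹) :
    QuotientGroup.mk' (centralizer (B : Set S)) g =
      QuotientGroup.mk' (centralizer (B : Set S)) g' :=
  (QuotientGroup.eq.2 (hB.act_eq hPB hP hv hvP hgP hgv)).symm

theorem conj_not_mem {P : Subgroup S} [P.Normal] {v g : S} (hvP : v ∉ P) :
    g * v * g⁻¹ ∉ P := fun h => hvP (by simpa [mul_assoc] using Normal.conj_mem' ‹_› _ h g)

/-- An invariant plane through a fixed point. -/
theorem exists_fix_plane (hB : EightNormal B) [Finite S] (hS : IsPGroup 2 S) :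
    ∃ (u : S) (H : Subgroup S), u ∈ H ∧ u ≠ 1 ∧ (∀ g : S, g * u * g⁻¹ = u) ∧ H ≤ B ∧ H.Normal ∧
      Nat.card H = 4 := by
  have := Fact.mk Nat.prime_two
  have := hB.normal
  obtain ⟨H, hHn, hHB, hH⟩ := PGroups.exists_normal_le_card hS (k := 2) B (by rw [hB.card]; norm_num)
  have hne : H ≠ ⊥ := fun h => by rw [h, Subgroup.card_bot] at hH; norm_num at hH
  obtain ⟨u, hu, hu1⟩ :=
    ((H ⊓ center S).bot_or_exists_ne_one).resolve_left (PGroups.normal_inf_center_ne_bot hS H hne)
  exact ⟨u, H, hu.1, hu1, fun g => by rw [mem_center_iff.1 hu.2 g, mul_inv_cancel_right],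
    hHB, hHn, hH⟩

theorem card_mk_le (hB : EightNormal B) [Finite S] (hS : IsPGroup 2 S)
    [(centralizer (B : Set S)).Normal] (T : Subgroup S) :
    Nat.card (T.map (QuotientGroup.mk' (centralizer (B : Set S)))) ≤ 8 := by
  classical
  obtain ⟨u, H, huH, hu1, hufix, hHB, hHn, hH⟩ := hB.exists_fix_plane hS
  obtain ⟨h, hh, hh1, hhu⟩ : ∃ h ∈ H, h ≠ 1 ∧ h ≠ u := by
    by_contra hcon
    push Not at hcon
    have hsub : (H : Set S) ⊆ {1, u} := fun x hx => by
      by_cases hx1 : x = 1
      · exact Or.inl hx1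
      · exact Or.inr (hcon x hx hx1)
    have := Set.ncard_le_ncard hsub
    rw [← Nat.card_coe_set_eq] at this
    have hpair : ({1, u} : Set S).ncard = 2 := Set.ncard_pair hu1.symm
    change Nat.card H ≤ _ at this
    omega
  obtain ⟨v, hv, hvH⟩ : ∃ v ∈ B, v ∉ H := by
    by_contra hcon
    push Not at hcon
    have := card_le_of_le (show B ≤ H from hcon)
    rw [hB.card, hH] at this
    omega
  have hH2 := relIndex_eq_two_of_card hHB (by rw [hH, hB.card])
  have key : ∀ g : S, (g * h * g⁻¹ = h ∨ g * h * g⁻¹ = u * h) ∧ v * (g * v * g⁻¹) ∈ H := by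
    intro g
    refine ⟨?_, ((mem_or_mem_of_relIndex_two hH2 hv hvH (hB.conj_mem g hv))).resolve_left
      (conj_not_mem hvH)⟩
    rcases mem_four hH huH hh hu1 hh1 hhu.symm (hB.sq u (hHB huH)) (hHn.conj_mem h hh g) with
      e | e | e | e
    · exact absurd (conj_eq_one_iff.1 e) hh1
    · exact absurd (by
        calc h = g⁻¹ * (g * h * g⁻¹) * g := by group
          _ = g⁻¹ * (g * u * g⁻¹) * g := by rw [e, hufix]
          _ = u := by group) hhu
    · exact Or.inl e
    · exact Or.inr e
  have h3 := card_map_le_of_values (QuotientGroup.mk' (centralizer (B : Set S))) T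
    (fun g => (g * h * g⁻¹, g * v * g⁻¹))
    (({h, u * h} : Finset S) ×ˢ ({v * 1, v * u, v * h, v * (u * h)} : Finset S))
    (fun g _ => by
      have e : g * v * g⁻¹ = v * (v * (g * v * g⁻¹)) := by rw [← mul_assoc, hB.sq v hv, one_mul]
      refine Finset.mem_product.2 ⟨by rcases (key g).1 with e | e <;> simp [e], ?_⟩
      rcases mem_four hH huH hh hu1 hh1 hhu.symm (hB.sq u (hHB huH)) (key g).2 with
        e' | e' | e' | e' <;> rw [e, e'] <;> simp)
    (fun x _ y _ e => hB.mk_eq hHB hH hv hvH (fun p hp => by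
      obtain ⟨e1, -⟩ := Prod.ext_iff.1 e
      dsimp only at e1
      rcases mem_four hH huH hh hu1 hh1 hhu.symm (hB.sq u (hHB huH)) hp with
        e2 | e2 | e2 | e2 <;> rw [e2]
      · simp
      · rw [hufix, hufix]
      · exact e1
      · rw [show x * (u * h) * x⁻¹ = (x * u * x⁻¹) * (x * h * x⁻¹) by group,
          show y * (u * h) * y⁻¹ = (y * u * y⁻¹) * (y * h * y⁻¹) by group, hufix, hufix, e1])
      (Prod.ext_iff.1 e).2)
  calc _ ≤ _ := h3
    _ ≤ 2 * 4 := by
      rw [Finset.card_product]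
      exact Nat.mul_le_mul Finset.card_le_two Finset.card_le_four
    _ = 8 := rfl

end EightNormal

end Cfsg.Agent.Lib.HaradaRank
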