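import Cfsg.Agent.Lib.HaradaRank.Basic

/-!
# The three factors of `W.relIndex T`

With `K = C_S(B)` the index splits over `S / K`, `K / B` and `B`.
-/

set_option autoImplicit false

namespace Cfsg.Agent.Lib.HaradaRank

open Subgroup

variable {S : Type*} [Group S]

/-- `W ≤ T` contains the squares of `T`. -/
structure SqIn (W T : Subgroup S) : Prop where
  le : W ≤ T
  sq : ∀ x ∈ T, x * x ∈ W

theorem SqIn.comm_mem {W T : Subgroup S} (h : SqIn W T) {x y : S} (hx : x ∈ T) (hy : y ∈ T) :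
    x * y * x⁻¹ * y⁻¹ ∈ W := by
  rw [show x * y * x⁻¹ * y⁻¹ = (x * x) * ((x⁻¹ * y) * (x⁻¹ * y)) * (y⁻¹ * y⁻¹) by group]
  exact mul_mem (mul_mem (h.sq x hx) (h.sq _ (mul_mem (inv_mem hx) hy))) (h.sq _ (inv_mem hy))

theorem pow_two_of_sq_le {n m : ℕ} (h1 : m < 2 ^ n) (h2 : 2 ^ n ≤ 2 * m + 1) (h3 : n ≤ 3)
    (hm : 4 ≤ m) : 2 ^ n = 8 := by
  interval_cases n <;> omega

namespace EightNormal

variable {B : Subgroup S}

theorem split [Finite S] (hB : EightNormal B) [hBn : B.Normal]
    [(centralizer (B : Set S)).Normal] {W T : Subgroup S} (hWT : W ≤ T) :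
    W.relIndex T =
      (W.map (QuotientGroup.mk' (centralizer (B : Set S)))).relIndex
          (T.map (QuotientGroup.mk' (centralizer (B : Set S)))) *
        ((((W ⊓ centralizer (B : Set S)).map (QuotientGroup.mk' B)).relIndex
            ((T ⊓ centralizer (B : Set S)).map (QuotientGroup.mk' B))) *
          (W ⊓ B).relIndex (T ⊓ B)) := by
  rw [relIndex_split (QuotientGroup.mk' (centralizer (B : Set S))) hWT, QuotientGroup.ker_mk',
    relIndex_split (QuotientGroup.mk' B) (inf_le_inf_right _ hWT), QuotientGroup.ker_mk',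
    inf_assoc, inf_assoc, inf_eq_right.2 hB.le_centralizer]

/-- The index over `S / K` is at most four. -/
theorem top_le_four [Finite S] (hB : EightNormal B) (hS : IsPGroup 2 S)
    [(centralizer (B : Set S)).Normal] {W T : Subgroup S} (h : SqIn W T) :
    (W.map (QuotientGroup.mk' (centralizer (B : Set S)))).relIndex
      (T.map (QuotientGroup.mk' (centralizer (B : Set S)))) ≤ 4 := by
  classical
  have := Fact.mk Nat.prime_two
  set π := QuotientGroup.mk' (centralizer (B : Set S))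
  have h8 : Nat.card (T.map π) ≤ 8 := hB.card_mk_le hS T
  by_contra hlt
  push Not at hlt
  have hW : ∀ w ∈ W.map π, w = 1 := by
    intro w hw
    by_contra hw1
    have := relIndex_mul_two_le (map_mono h.le) hw hw1
    omega
  have hsq : ∀ x ∈ T, π x * π x = 1 := fun x hx => by
    rw [← map_mul]
    exact hW _ ⟨_, h.sq x hx, rfl⟩
  have hcomm : ∀ x ∈ T, ∀ y ∈ T, π x * π y = π y * π x := by
    intro x hx y hy
    have e1 := hsq x hx
    have e2 := hsq y hy
    have e3 := hsq (x * y) (mul_mem hx hy)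
    rw [map_mul] at e3
    calc π x * π y = (π x * π y)⁻¹ := (inv_eq_of_mul_eq_one_right e3).symm
      _ = (π y)⁻¹ * (π x)⁻¹ := mul_inv_rev _ _
      _ = π y * π x := by rw [inv_eq_of_mul_eq_one_right e1, inv_eq_of_mul_eq_one_right e2]
  have hpow : Nat.card (T.map π) = 8 := by
    obtain ⟨n, hn⟩ := IsPGroup.iff_card.1 ((hS.to_subgroup T).map π)
    have h4 := relIndex_le_card (W.map π) (T.map π)
    have hn3 : n ≤ 3 := by
      by_contra h3
      have : 2 ^ 4 ≤ 2 ^ n := Nat.pow_le_pow_right (by norm_num) (by omega)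
      omega
    rw [hn] at h4 ⊢
    interval_cases n <;> omega
  obtain ⟨u, H, huH, hu1, hufix, hHB, hHn, hH⟩ := hB.exists_fix_plane hS
  obtain ⟨hh, hhH, hh1, hhu⟩ : ∃ x ∈ H, x ≠ 1 ∧ x ≠ u := by
    by_contra hcon
    push Not at hcon
    have hsub : (H : Set S) ⊆ {1, u} := fun x hx => by
      by_cases hx1 : x = 1
      · exact Or.inl hx1
      · exact Or.inr (hcon x hx hx1)
    have := Set.ncard_le_ncard hsub
    rw [← Nat.card_coe_set_eq] at this
    have hpair : ({1, u} : Set S).ncard = 2 := Set.ncard_pair hu1.symm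
    change Nat.card H ≤ _ at this
    omega
  obtain ⟨v, hv, hvH⟩ : ∃ v ∈ B, v ∉ H := by
    by_contra hcon
    push Not at hcon
    have := card_le_of_le (show B ≤ H from hcon)
    rw [hB.card, hH] at this
    omega
  have hH2 := relIndex_eq_two_of_card hHB (by rw [hH, hB.card])
  have hmem : ∀ x ∈ H, x = 1 ∨ x = u ∨ x = hh ∨ x = u * hh := fun x hx =>
    mem_four hH huH hhH hu1 hh1 hhu.symm (hB.sq u (hHB huH)) hx
  have hfixh : ∀ g : S, g * hh * g⁻¹ = hh ∨ g * hh * g⁻¹ = u * hh := by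
    intro g
    rcases hmem _ (hHn.conj_mem hh hhH g) with e | e | e | e
    · exact absurd (conj_eq_one_iff.1 e) hh1
    · exact absurd (by
        calc hh = g⁻¹ * (g * hh * g⁻¹) * g := by group
          _ = g⁻¹ * (g * u * g⁻¹) * g := by rw [e, hufix]
          _ = u := by group) hhu
    · exact Or.inl e
    · exact Or.inr e
  have hfixH : ∀ g g' : S, g * hh * g⁻¹ = g' * hh * g'⁻¹ →
      ∀ p ∈ H, g * p * g⁻¹ = g' * p * g'⁻¹ := by
    intro g g' e p hp
    rcases hmem p hp with e2 | e2 | e2 | e2 <;> rw [e2]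
    · simp
    · rw [hufix, hufix]
    · exact e
    · rw [show g * (u * hh) * g⁻¹ = (g * u * g⁻¹) * (g * hh * g⁻¹) by group,
        show g' * (u * hh) * g'⁻¹ = (g' * u * g'⁻¹) * (g' * hh * g'⁻¹) by group, hufix, hufix, e]
  have hvv : ∀ g : S, g * v * g⁻¹ = v * (v * (g * v * g⁻¹)) ∧ v * (g * v * g⁻¹) ∈ H := fun g =>
    ⟨by rw [← mul_assoc, hB.sq v hv, one_mul],
      ((mem_or_mem_of_relIndex_two hH2 hv hvH (hB.conj_mem g hv))).resolve_left
        (conj_not_mem hvH)⟩
  -- the values on `(hh, v)`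
  have hval := fun (s : Finset (S × S)) (hs : ∀ y ∈ T, (y * hh * y⁻¹, y * v * y⁻¹) ∈ s) =>
    card_map_le_of_values π T (fun g => (g * hh * g⁻¹, g * v * g⁻¹)) s hs
      (fun x _ y _ e => hB.mk_eq hHB hH hv hvH (hfixH x y (Prod.ext_iff.1 e).1)
        (Prod.ext_iff.1 e).2)
  obtain ⟨g, hgT, hgh, q, hqT, hqh, hqv⟩ : ∃ g ∈ T, g * hh * g⁻¹ = u * hh ∧ ∃ q ∈ T,
      q * hh * q⁻¹ = hh ∧ (v * (q * v * q⁻¹) = hh ∨ v * (q * v * q⁻¹) = u * hh) := by
    by_contra hcon
    push Not at hcon
    by_cases hg : ∃ g ∈ T, g * hh * g⁻¹ = u * hh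
    · obtain ⟨g, hgT, hgh⟩ := hg
      have := hval (({hh} : Finset S) ×ˢ ({v * 1, v * u} : Finset S) ∪
          ({u * hh} : Finset S) ×ˢ ({v * 1, v * u, v * hh, v * (u * hh)} : Finset S)) fun y hy => by
        rcases hfixh y with e | e
        · refine Finset.mem_union_left _ (Finset.mem_product.2 ⟨by simp [e], ?_⟩)
          obtain ⟨h1, h2⟩ := hcon g hgT hgh y hy e
          rcases hmem _ (hvv y).2 with e' | e' | e' | e'
          · rw [(hvv y).1, e']; simp
          · rw [(hvv y).1, e']; simp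
          · exact absurd e' h1
          · exact absurd e' h2
        · refine Finset.mem_union_right _ (Finset.mem_product.2 ⟨by simp [e], ?_⟩)
          rcases hmem _ (hvv y).2 with e' | e' | e' | e' <;> rw [(hvv y).1, e'] <;> simp
      have h2 := this.trans (Finset.card_union_le _ _)
      rw [Finset.card_product, Finset.card_product, Finset.card_singleton,
        Finset.card_singleton] at h2
      have h3 := Finset.card_le_two (a := v * 1) (b := v * u)
      have h4 := Finset.card_le_four (a := v * 1) (b := v * u) (c := v * hh) (d := v * (u * hh))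
      omega
    · push Not at hg
      have := hval (({hh} : Finset S) ×ˢ ({v * 1, v * u, v * hh, v * (u * hh)} : Finset S))
        fun y hy => Finset.mem_product.2 ⟨by simpa using (hfixh y).resolve_right (hg y hy), by
          rcases hmem _ (hvv y).2 with e' | e' | e' | e' <;> rw [(hvv y).1, e'] <;> simp⟩
      rw [Finset.card_product, Finset.card_singleton] at this
      have h4 := Finset.card_le_four (a := v * 1) (b := v * u) (c := v * hh) (d := v * (u * hh))
      omega
  -- the actions of `g` and `q` commute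
  have hgq : (q * g)⁻¹ * (g * q) ∈ centralizer (B : Set S) := by
    refine QuotientGroup.eq.1 ?_
    change π (q * g) = π (g * q)
    rw [map_mul, map_mul, hcomm q hqT g hgT]
  have e1 : g * (q * v * q⁻¹) * g⁻¹ = q * (g * v * g⁻¹) * q⁻¹ := by
    have := mem_centralizer.1 hgq v hv
    calc g * (q * v * q⁻¹) * g⁻¹
        = (q * g) * (((q * g)⁻¹ * (g * q)) * v * ((q * g)⁻¹ * (g * q))⁻¹) * (q * g)⁻¹ := by group
      _ = (q * g) * v * (q * g)⁻¹ := by rw [this]
      _ = _ := by group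
  have hcH : ∀ x ∈ H, q * x * q⁻¹ = x := fun x hx => by
    have h1 : q * hh * q⁻¹ = 1 * hh * (1 : S)⁻¹ := by simpa using hqh
    simpa using hfixH q 1 h1 x hx
  obtain ⟨a₁, ha₁⟩ : ∃ x, x = v * (g * v * g⁻¹) := ⟨_, rfl⟩
  obtain ⟨h₂, hh₂⟩ : ∃ x, x = v * (q * v * q⁻¹) := ⟨_, rfl⟩
  have hgv : g * v * g⁻¹ = v * a₁ := ha₁ ▸ (hvv g).1
  have hqv' : q * v * q⁻¹ = v * h₂ := hh₂ ▸ (hvv q).1
  have ha₁H : a₁ ∈ H := ha₁ ▸ (hvv g).2
  have hh₂H : h₂ ∈ H := hh₂ ▸ (hvv q).2
  rw [← hh₂] at hqv
  rw [hqv', hgv] at e1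
  have e2 : g * h₂ * g⁻¹ = h₂ := by
    have l : g * (v * h₂) * g⁻¹ = (v * a₁) * (g * h₂ * g⁻¹) := by
      rw [show g * (v * h₂) * g⁻¹ = (g * v * g⁻¹) * (g * h₂ * g⁻¹) by group, hgv]
    have r : q * (v * a₁) * q⁻¹ = (v * h₂) * a₁ := by
      rw [show q * (v * a₁) * q⁻¹ = (q * v * q⁻¹) * (q * a₁ * q⁻¹) by group, hqv',
        hcH a₁ ha₁H]
    rw [l, r] at e1
    refine mul_left_cancel (a := v * a₁) (e1.trans ?_)
    rw [mul_assoc, hB.comm h₂ (hHB hh₂H) a₁ (hHB ha₁H), ← mul_assoc]
  have hne : u * hh ≠ hh := fun h' => hu1 (mul_eq_right.1 h')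
  rcases hqv with e | e
  · rw [e] at e2
    exact hne (hgh.symm.trans e2)
  · rw [e, show g * (u * hh) * g⁻¹ = (g * u * g⁻¹) * (g * hh * g⁻¹) by group, hufix, hgh] at e2
    exact hu1 (mul_eq_left.1 (by
      rw [← mul_assoc] at e2
      exact mul_right_cancel e2))

/-- An element moving `B` leaves index at most four inside `B`. -/
theorem bot_le_four [Finite S] (hB : EightNormal B) {W T : Subgroup S} (h : SqIn W T) {t : S}
    (ht : t ∈ T) (htK : t ∉ centralizer (B : Set S)) : (W ⊓ B).relIndex (T ⊓ B) ≤ 4 := by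
  by_cases hTB : B ≤ T
  · rw [inf_eq_right.2 hTB]
    obtain ⟨b, hb, hbne⟩ : ∃ b ∈ B, t * b * t⁻¹ ≠ b := by
      by_contra hcon
      push Not at hcon
      exact htK (mem_centralizer.2 hcon)
    have hw : t * b * t⁻¹ * b⁻¹ ∈ W ⊓ B :=
      ⟨h.comm_mem ht (hTB hb), B.mul_mem (hB.conj_mem t hb) (inv_mem hb)⟩
    have := relIndex_mul_two_le (T := B) inf_le_right hw (fun e => hbne (mul_inv_eq_one.1 e))
    rw [hB.card] at this
    omega
  · refine (relIndex_le_card _ _).trans ?_
    have h1 : T ⊓ B < B := lt_of_le_of_ne inf_le_right fun e => hTB (e ▸ inf_le_left)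
    have h2 := card_dvd_of_le h1.le
    have h3 : Nat.card (T ⊓ B : Subgroup S) ≠ Nat.card B := fun e =>
      h1.ne (eq_of_le_of_card_ge h1.le e.ge)
    rw [hB.card] at h2 h3
    have := Nat.le_of_dvd (by norm_num) h2
    interval_cases Nat.card (T ⊓ B : Subgroup S) <;> omega

theorem bot_le_eight [Finite S] (hB : EightNormal B) (W T : Subgroup S) :
    (W ⊓ B).relIndex (T ⊓ B) ≤ 8 :=
  (relIndex_le_card _ _).trans (hB.card ▸ card_le_of_le inf_le_right)

/-- An element outside `K` from a non-trivial top index. -/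
theorem exists_not_mem [Finite S] [(centralizer (B : Set S)).Normal] {W T : Subgroup S}
    (h : 2 ≤ (W.map (QuotientGroup.mk' (centralizer (B : Set S)))).relIndex
      (T.map (QuotientGroup.mk' (centralizer (B : Set S))))) :
    ∃ t ∈ T, t ∉ centralizer (B : Set S) := by
  by_contra hcon
  push Not at hcon
  have h1 : T.map (QuotientGroup.mk' (centralizer (B : Set S))) = ⊥ := by
    rw [Subgroup.map_eq_bot_iff, QuotientGroup.ker_mk']
    exact hcon
  rw [h1, relIndex_bot_right] at h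
  omega

/-- The case of trivial index over `K / B`. -/
theorem le_sixteen_of_mid [Finite S] (hB : EightNormal B) (hS : IsPGroup 2 S)
    [(centralizer (B : Set S)).Normal] [B.Normal] {W T : Subgroup S} (h : SqIn W T)
    (hmid : ((W ⊓ centralizer (B : Set S)).map (QuotientGroup.mk' B)).relIndex
            ((T ⊓ centralizer (B : Set S)).map (QuotientGroup.mk' B)) = 1) :
    W.relIndex T ≤ 16 := by
  rw [hB.split h.le, hmid, one_mul]
  have h4 := hB.top_le_four hS h
  by_cases h2 : 2 ≤ (W.map (QuotientGroup.mk' (centralizer (B : Set S)))).relIndex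
      (T.map (QuotientGroup.mk' (centralizer (B : Set S))))
  · obtain ⟨t, ht, htK⟩ := exists_not_mem h2
    exact Nat.mul_le_mul h4 (hB.bot_le_four h ht htK)
  · calc _ ≤ 2 * 8 := Nat.mul_le_mul (by omega) (hB.bot_le_eight W T)
      _ = 16 := rfl

end EightNormal

end Cfsg.Agent.Lib.HaradaRank
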