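import Mathlib

/-!
# Two four-subgroups with the centre in a central product of two quaternion groups

`Quad z i j i' j'` : the relations of two commuting quaternion pairs with common involution `z`.
The group they generate is described by five bits.
-/

set_option autoImplicit false
set_option synthInstance.maxSize 4000

namespace Cfsg.Agent.Lib.HaradaRank.CentralQ8

/-- Five bits: `z^a i^b j^c i'^d j'^e`. -/
abbrev Bits := Bool × Bool × Bool × Bool × Bool

/-- The product in terms of bits. -/
def bmul : Bits → Bits → Bits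
  | (a, b, c, d, e), (a', b', c', d', e') =>
    (xor a (xor a' (xor (c && b') (xor (b && b') (xor (c && c')
      (xor (e && d') (xor (d && d') (e && e'))))))), xor b b', xor c c', xor d d', xor e e')

/-- `z`. -/
def bz : Bits := (true, false, false, false, false)
/-- `1`. -/
def b1 : Bits := (false, false, false, false, false)
/-- `i`. -/
def bi : Bits := (false, true, false, false, false)
/-- `j`. -/
def bj : Bits := (false, false, true, false, false)
/-- `i'`. -/
def bi' : Bits := (false, false, false, true, false)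
/-- `j'`. -/
def bj' : Bits := (false, false, false, false, true)
/-- `i i'`. -/
def ba : Bits := (false, true, false, true, false)
/-- `j j'`. -/
def bb : Bits := (false, false, true, false, true)

/-- Membership in `⟨z, i i', j j'⟩`. -/
abbrev InA (u : Bits) : Prop := bmul u ba = bmul ba u ∧ bmul u bb = bmul bb u

theorem inA_comm : ∀ u : Bits, InA u → ∀ v : Bits, InA v → bmul u v = bmul v u := by decide

theorem inA_sq : ∀ u : Bits, InA u → bmul u u = b1 := by decide

theorem inA_card : (Finset.univ.filter InA).card = 8 := by decide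

theorem inA_conj : ∀ u : Bits, InA u → InA (bmul bz u) ∧ ∀ q : Bits,
    bmul q u = bmul u q ∨ bmul q u = bmul (bmul bz u) q := by decide

theorem images : ∀ u : Bits, bmul u u = bz → bmul ba u = bmul u ba →
    bmul bb u = bmul bz (bmul u bb) → ∀ v : Bits, bmul v v = bz → bmul bb v = bmul v bb →
    bmul ba v = bmul bz (bmul v ba) → bmul v u = bmul bz (bmul u v) →
    ((u = bi ∨ u = bmul bz bi) ∧ (v = bj ∨ v = bmul bz bj)) ∨
      ((u = bi' ∨ u = bmul bz bi') ∧ (v = bj' ∨ v = bmul bz bj')) := by decide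

variable {S : Type*} [Group S]

/-- Two commuting quaternion pairs with common involution `z`. -/
structure Quad (z i j i' j' : S) : Prop where
  zz : z * z = 1
  ii : i * i = z
  jj : j * j = z
  ji : j * i = z * (i * j)
  ii' : i' * i' = z
  jj' : j' * j' = z
  ji' : j' * i' = z * (i' * j')
  c1 : Commute i i'
  c2 : Commute i j'
  c3 : Commute j i'
  c4 : Commute j j'

/-- Power with exponent a bit. -/
def pw (x : S) (b : Bool) : S := bif b then x else 1

theorem pw_mul_pw {x z : S} (h : x * x = z) (b b' : Bool) :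
    pw x b * pw x b' = pw z (b && b') * pw x (xor b b') := by
  cases b <;> cases b' <;> simp [pw, h]

theorem pw_swap {x y z : S} (h : y * x = z * (x * y)) (c b : Bool) :
    pw y c * pw x b = pw z (c && b) * (pw x b * pw y c) := by
  cases c <;> cases b <;> simp [pw, h]

theorem commute_pw {x y : S} (h : Commute x y) (b c : Bool) : Commute (pw x b) (pw y c) := by
  cases b <;> cases c <;> simp [pw, h]

namespace Quad

variable {z i j i' j' : S} (h : Quad z i j i' j')

include h

theorem zi : Commute z i := by rw [← h.ii]; exact (Commute.refl i).mul_left (Commute.refl i)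
theorem zj : Commute z j := by rw [← h.jj]; exact (Commute.refl j).mul_left (Commute.refl j)
theorem zi' : Commute z i' := by rw [← h.ii']; exact (Commute.refl i').mul_left (Commute.refl i')
theorem zj' : Commute z j' := by rw [← h.jj']; exact (Commute.refl j').mul_left (Commute.refl j')

/-- The second choice of pairs. -/
theorem second : Quad z i j j' (i' * j') where
  zz := h.zz
  ii := h.ii
  jj := h.jj
  ji := h.ji
  ii' := h.jj'
  jj' := by
    calc i' * j' * (i' * j') = i' * (j' * i') * j' := by group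
      _ = i' * z * (i' * j' * j') := by rw [h.ji']; group
      _ = (z * i') * (i' * z) := by rw [h.zi'.eq, mul_assoc i' j', h.jj']
      _ = z * (i' * i') * z := by group
      _ = z := by rw [h.ii', h.zz, one_mul]
  ji' := by
    calc i' * j' * j' = i' * z := by rw [mul_assoc, h.jj']
      _ = z * i' := h.zi'.symm.eq
      _ = (z * z) * (z * i') := by rw [h.zz, one_mul]
      _ = z * (z * (i' * z)) := by rw [← h.zi'.eq]; group
      _ = z * (z * (i' * j') * j') := by rw [← h.jj']; group
      _ = z * (j' * i' * j') := by rw [← h.ji']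
      _ = _ := by group
  c1 := h.c2
  c2 := h.c1.mul_right h.c2
  c3 := h.c4
  c4 := h.c3.mul_right h.c4

end Quad

/-- The element with given bits. -/
def ev (z i j i' j' : S) : Bits → S
  | (a, b, c, d, e) => pw z a * ((pw i b * pw j c) * (pw i' d * pw j' e))

variable {z i j i' j' : S}

theorem pair_mul {x y : S} (hz : z * z = 1) (hx : x * x = z) (hy : y * y = z)
    (hyx : y * x = z * (x * y)) (b c b' c' : Bool) :
    (pw x b * pw y c) * (pw x b' * pw y c') =
      pw z (xor (c && b') (xor (b && b') (c && c'))) * (pw x (xor b b') * pw y (xor c c')) := by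
  have hzx : Commute z x := by rw [← hx]; exact (Commute.refl x).mul_left (Commute.refl x)
  have h1 := fun (p : Bool) (q : Bool) => (commute_pw hzx p q).eq
  calc (pw x b * pw y c) * (pw x b' * pw y c')
      = pw x b * (pw y c * pw x b') * pw y c' := by group
    _ = (pw x b * pw z (c && b')) * (pw x b' * (pw y c * pw y c')) := by
      rw [pw_swap hyx]; group
    _ = pw z (c && b') * ((pw x b * pw x b') * (pw y c * pw y c')) := by rw [← h1]; group
    _ = pw z (c && b') * (pw z (b && b') * (pw x (xor b b') * pw z (c && c')) *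
          pw y (xor c c')) := by rw [pw_mul_pw hx, pw_mul_pw hy]; group
    _ = (pw z (c && b') * pw z (b && b') * pw z (c && c')) *
          (pw x (xor b b') * pw y (xor c c')) := by rw [← h1]; group
    _ = _ := by
      congr 1
      cases (c && b') <;> cases (b && b') <;> cases (c && c') <;> simp [pw, hz]

theorem ev_bmul (h : Quad z i j i' j') (u v : Bits) :
    ev z i j i' j' (bmul u v) = ev z i j i' j' u * ev z i j i' j' v := by
  obtain ⟨a, b, c, d, e⟩ := u
  obtain ⟨a', b', c', d', e'⟩ := v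
  have hz1 : ∀ (p b c : Bool), Commute (pw z p) (pw i b * pw j c) := fun p b c =>
    (commute_pw h.zi p b).mul_right (commute_pw h.zj p c)
  have hz2 : ∀ (p d e : Bool), Commute (pw z p) (pw i' d * pw j' e) := fun p d e =>
    (commute_pw h.zi' p d).mul_right (commute_pw h.zj' p e)
  have h12 : ∀ (b c d e : Bool), Commute (pw i b * pw j c) (pw i' d * pw j' e) := fun b c d e =>
    ((commute_pw h.c1 b d).mul_right (commute_pw h.c2 b e)).mul_left
      ((commute_pw h.c3 c d).mul_right (commute_pw h.c4 c e))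
  symm
  simp only [ev, bmul]
  calc pw z a * ((pw i b * pw j c) * (pw i' d * pw j' e)) *
        (pw z a' * ((pw i b' * pw j c') * (pw i' d' * pw j' e')))
      = pw z a * ((((pw i b * pw j c) * (pw i' d * pw j' e)) * pw z a') *
          ((pw i b' * pw j c') * (pw i' d' * pw j' e'))) := by simp only [mul_assoc]
    _ = pw z a * pw z a' * ((pw i b * pw j c) * ((pw i' d * pw j' e) * (pw i b' * pw j c')) *
          (pw i' d' * pw j' e')) := by
      rw [← ((hz1 a' b c).mul_right (hz2 a' d e)).eq]; simp only [mul_assoc]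
    _ = pw z a * pw z a' * (((pw i b * pw j c) * (pw i b' * pw j c')) *
          ((pw i' d * pw j' e) * (pw i' d' * pw j' e'))) := by
      rw [← (h12 b' c' d e).eq]; simp only [mul_assoc]
    _ = pw z a * pw z a' * (pw z (xor (c && b') (xor (b && b') (c && c'))) *
          (((pw i (xor b b') * pw j (xor c c')) * pw z (xor (e && d') (xor (d && d') (e && e')))) *
            (pw i' (xor d d') * pw j' (xor e e')))) := by
      rw [pair_mul h.zz h.ii h.jj h.ji, pair_mul h.zz h.ii' h.jj' h.ji']; simp only [mul_assoc]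
    _ = (pw z a * pw z a' * pw z (xor (c && b') (xor (b && b') (c && c'))) *
          pw z (xor (e && d') (xor (d && d') (e && e')))) *
          ((pw i (xor b b') * pw j (xor c c')) * (pw i' (xor d d') * pw j' (xor e e'))) := by
      rw [← (hz1 _ _ _).eq]; simp only [mul_assoc]
    _ = _ := by
      congr 1
      generalize (c && b') = p1
      generalize (b && b') = p2
      generalize (c && c') = p3
      generalize (e && d') = p4
      generalize (d && d') = p5
      generalize (e && e') = p6
      cases a <;> cases a' <;> cases p1 <;> cases p2 <;> cases p3 <;> cases p4 <;> cases p5 <;>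
        cases p6 <;> simp [pw, h.zz]

theorem ev_one : ev z i j i' j' b1 = 1 := by simp [ev, b1, pw]
theorem ev_z : ev z i j i' j' bz = z := by simp [ev, bz, pw]
theorem ev_i : ev z i j i' j' bi = i := by simp [ev, bi, pw]
theorem ev_j : ev z i j i' j' bj = j := by simp [ev, bj, pw]
theorem ev_i' : ev z i j i' j' bi' = i' := by simp [ev, bi', pw]
theorem ev_j' : ev z i j i' j' bj' = j' := by simp [ev, bj', pw]
theorem ev_a : ev z i j i' j' ba = i * i' := by simp [ev, ba, pw]
theorem ev_b : ev z i j i' j' bb = j * j' := by simp [ev, bb, pw]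

/-- A group of order 32 generated by a quad. -/
structure Frame (Q : Subgroup S) (z i j i' j' : S) : Prop where
  quad : Quad z i j i' j'
  hi : i ∈ Q
  hj : j ∈ Q
  hi' : i' ∈ Q
  hj' : j' ∈ Q
  gen : ∀ x ∈ Q, x ∈ Subgroup.closure ({i, j, i', j'} : Set S)
  card : Nat.card Q = 32

variable {Q : Subgroup S}

theorem Frame.second (h : Frame Q z i j i' j') : Frame Q z i j j' (i' * j') where
  quad := h.quad.second
  hi := h.hi
  hj := h.hj
  hi' := h.hj'
  hj' := mul_mem h.hi' h.hj'
  card := h.card
  gen x hx := by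
    refine (Subgroup.closure_le _).2 ?_ (h.gen x hx)
    have hm : ∀ y ∈ ({i, j, j', i' * j'} : Set S),
        y ∈ Subgroup.closure ({i, j, j', i' * j'} : Set S) := fun y hy => Subgroup.subset_closure hy
    intro y hy
    rcases hy with e | e | e | e
    · subst e; exact hm _ (by simp)
    · subst e; exact hm _ (by simp)
    · subst e
      simpa using mul_mem (hm (y * j') (by simp)) (inv_mem (hm j' (by simp)))
    · rw [Set.mem_singleton_iff] at e; subst e; exact hm _ (by simp)

variable [Finite S]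

theorem ev_mem (h : Frame Q z i j i' j') (u : Bits) : ev z i j i' j' u ∈ Q := by
  have hz : z ∈ Q := h.quad.ii ▸ mul_mem h.hi h.hi
  obtain ⟨a, b, c, d, e⟩ := u
  have hp : ∀ (x : S) (q : Bool), x ∈ Q → pw x q ∈ Q := fun x q hx => by
    cases q <;> simp [pw, hx, one_mem]
  exact mul_mem (hp z a hz) (mul_mem (mul_mem (hp i b h.hi) (hp j c h.hj))
    (mul_mem (hp i' d h.hi') (hp j' e h.hj')))

theorem exists_ev (h : Frame Q z i j i' j') {x : S} (hx : x ∈ Q) :
    ∃ u, ev z i j i' j' u = x := by
  let R : Submonoid S :=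
    { carrier := Set.range (ev z i j i' j')
      one_mem' := ⟨b1, ev_one⟩
      mul_mem' := by rintro _ _ ⟨u, rfl⟩ ⟨v, rfl⟩; exact ⟨bmul u v, ev_bmul h.quad u v⟩ }
  let R' : Subgroup S :=
    { R with
      inv_mem' := fun {g} hg => by
        have e : g⁻¹ = g ^ (orderOf g - 1) := by
          apply inv_eq_of_mul_eq_one_right
          rw [← pow_succ', Nat.sub_add_cancel (orderOf_pos g), pow_orderOf_eq_one]
        rw [e]
        exact R.pow_mem hg _ }
  have hR : Subgroup.closure ({i, j, i', j'} : Set S) ≤ R' := by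
    rw [Subgroup.closure_le]
    intro y hy
    rcases hy with e | e | e | e
    · exact ⟨bi, e ▸ ev_i⟩
    · exact ⟨bj, e ▸ ev_j⟩
    · exact ⟨bi', e ▸ ev_i'⟩
    · rw [Set.mem_singleton_iff] at e; exact ⟨bj', e ▸ ev_j'⟩
  exact hR (h.gen x hx)

theorem ev_inj (h : Frame Q z i j i' j') : Function.Injective (ev z i j i' j') := by
  let f : Bits → Q := fun u => ⟨_, ev_mem h u⟩
  have hsurj : Function.Surjective f := fun x => by
    obtain ⟨u, hu⟩ := exists_ev h x.2
    exact ⟨u, Subtype.ext hu⟩
  have hbij := hsurj.bijective_of_nat_card_le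
    (by rw [h.card, Nat.card_eq_fintype_card]; rfl)
  exact fun u v huv => hbij.1 (Subtype.ext huv)

/-- The candidate `⟨z, i i', j j'⟩`. -/
def four (Q : Subgroup S) (i j i' j' : S) : Subgroup S :=
  Q ⊓ Subgroup.centralizer ({i * i', j * j'} : Set S)

omit [Finite S] in
theorem mem_four_iff {x : S} : x ∈ four Q i j i' j' ↔
    x ∈ Q ∧ x * (i * i') = i * i' * x ∧ x * (j * j') = j * j' * x := by
  simp [four, Subgroup.mem_centralizer_iff, eq_comm]

theorem ev_mem_four (h : Frame Q z i j i' j') {u : Bits} :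
    ev z i j i' j' u ∈ four Q i j i' j' ↔ InA u := by
  rw [mem_four_iff, InA, ← (ev_inj h).eq_iff, ← (ev_inj h).eq_iff (a := bmul u bb)]
  simp only [ev_bmul h.quad, ev_a, ev_b]
  exact and_iff_right (ev_mem h u)

theorem four_spec (h : Frame Q z i j i' j') :
    (∀ x ∈ four Q i j i' j', ∀ y ∈ four Q i j i' j', x * y = y * x) ∧
    (∀ x ∈ four Q i j i' j', x ^ 2 = 1) ∧ Nat.card (four Q i j i' j') = 8 ∧
    Q ≤ Subgroup.normalizer (four Q i j i' j' : Set S) ∧
    z ∈ four Q i j i' j' ∧ i * i' ∈ four Q i j i' j' ∧ j * j' ∈ four Q i j i' j' := by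
  have hq := h.quad
  have hsur : ∀ x ∈ four Q i j i' j', ∃ u, InA u ∧ ev z i j i' j' u = x := fun x hx => by
    obtain ⟨u, rfl⟩ := exists_ev h (mem_four_iff.1 hx).1
    exact ⟨u, (ev_mem_four h).1 hx, rfl⟩
  refine ⟨fun x hx y hy => ?_, fun x hx => ?_, ?_, ?_, ?_, ?_, ?_⟩
  · obtain ⟨u, hu, rfl⟩ := hsur x hx
    obtain ⟨v, hv, rfl⟩ := hsur y hy
    rw [← ev_bmul hq, ← ev_bmul hq, inA_comm u hu v hv]
  · obtain ⟨u, hu, rfl⟩ := hsur x hx
    rw [pow_two, ← ev_bmul hq, inA_sq u hu, ev_one]
  · let f : {u : Bits // InA u} → four Q i j i' j' := fun u => ⟨_, (ev_mem_four h).2 u.2⟩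
    have hf : Function.Bijective f := ⟨fun u v huv => Subtype.ext
      (ev_inj h (congrArg Subtype.val huv)), fun x => by
        obtain ⟨u, hu, hux⟩ := hsur x x.2
        exact ⟨⟨u, hu⟩, Subtype.ext hux⟩⟩
    rw [← Nat.card_congr (Equiv.ofBijective f hf), Nat.card_eq_fintype_card, Fintype.card_subtype]
    exact inA_card
  · have key : ∀ g ∈ Q, ∀ x ∈ four Q i j i' j', g * x * g⁻¹ ∈ four Q i j i' j' := by
      intro g hg x hx
      obtain ⟨u, hu, rfl⟩ := hsur x hx
      obtain ⟨q, rfl⟩ := exists_ev h hg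
      rcases (inA_conj u hu).2 q with e | e
      · rw [← ev_bmul hq, e, ev_bmul hq, mul_inv_cancel_right]; exact (ev_mem_four h).2 hu
      · rw [← ev_bmul hq, e, ev_bmul hq, mul_inv_cancel_right]
        exact (ev_mem_four h).2 (inA_conj u hu).1
    intro g hg
    rw [Subgroup.mem_normalizer_iff]
    intro x
    refine ⟨key g hg x, fun hx => ?_⟩
    have := key g⁻¹ (inv_mem hg) _ hx
    simpa [mul_assoc] using this
  · rw [← ev_z (z := z) (i := i) (j := j) (i' := i') (j' := j'), ev_mem_four h]; decide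
  · rw [← ev_a (z := z) (i := i) (j := j) (i' := i') (j' := j'), ev_mem_four h]; decide
  · rw [← ev_b (z := z) (i := i) (j := j) (i' := i') (j' := j'), ev_mem_four h]; decide

/-- `v = ± u`. -/
def Sim (z u v : S) : Prop := v = u ∨ v = z * u

omit [Finite S] in
theorem Sim.map {z u v w : S} (h : Sim z u v) {x : S} (hz : x * z * x⁻¹ = z) (hzz : z * z = 1)
    (h' : Sim z w (x * u * x⁻¹)) : Sim z w (x * v * x⁻¹) := by
  rcases h with rfl | rfl
  · exact h'
  · have e : x * (z * u) * x⁻¹ = z * (x * u * x⁻¹) := by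
      calc x * (z * u) * x⁻¹ = (x * z * x⁻¹) * (x * u * x⁻¹) := by group
        _ = _ := by rw [hz]
    rw [e]
    rcases h' with e' | e'
    · exact Or.inr (by rw [e'])
    · exact Or.inl (by rw [e', ← mul_assoc, hzz, one_mul])

/-- A normalizing element outside `Q` centralizing the candidate exchanges the pairs. -/
theorem swap (h : Frame Q z i j i' j') (hC : Subgroup.centralizer (Q : Set S) ≤ Q) {x : S}
    (hxQ : x ∉ Q) (hxN : ∀ g ∈ Q, x * g * x⁻¹ ∈ Q)
    (hxA : ∀ g ∈ four Q i j i' j', x * g * x⁻¹ = g) :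
    Sim z i' (x * i * x⁻¹) ∧ Sim z j' (x * j * x⁻¹) ∧
      Sim z i (x * i' * x⁻¹) ∧ Sim z j (x * j' * x⁻¹) := by
  have hq := h.quad
  obtain ⟨hcm, -, -, -, hzA, haA, hbA⟩ := four_spec h
  obtain ⟨u, hu⟩ := exists_ev h (hxN i h.hi)
  obtain ⟨v, hv⟩ := exists_ev h (hxN j h.hj)
  have hab := fun (p q : S) => (show x * p * x⁻¹ * (x * q * x⁻¹) = x * (p * q) * x⁻¹ by group)
  have hxz := hxA z hzA
  have hxa := hxA _ haA
  have hxb := hxA _ hbA
  have hpush : ∀ p q : Bits, ∀ p' q' r r' : S, ev z i j i' j' p = x * p' * x⁻¹ →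
      ev z i j i' j' q = x * q' * x⁻¹ → p' * q' = r → x * r * x⁻¹ = r' →
      ev z i j i' j' (bmul p q) = r' := by
    intro p q p' q' r r' hp hq' hr hr'
    rw [ev_bmul hq, hp, hq', hab, hr, hr']
  have einj := ev_inj h
  have ea : ev z i j i' j' ba = x * (i * i') * x⁻¹ := by rw [ev_a, hxa]
  have eb : ev z i j i' j' bb = x * (j * j') * x⁻¹ := by rw [ev_b, hxb]
  have ez : ev z i j i' j' bz = x * z * x⁻¹ := by rw [ev_z, hxz]
  -- relations of `i`, `j` with the candidate, read off in bits
  have rel : ∀ {p q r t : Bits} {p' q' r' t' : S}, ev z i j i' j' p = x * p' * x⁻¹ →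
      ev z i j i' j' q = x * q' * x⁻¹ → ev z i j i' j' r = x * r' * x⁻¹ →
      ev z i j i' j' t = x * t' * x⁻¹ → p' * q' = r' * t' → bmul p q = bmul r t := by
    intro p q r t p' q' r' t' hp hq' hr ht e
    exact einj (by rw [ev_bmul hq, ev_bmul hq, hp, hq', hr, ht, hab, hab, e])
  have emul : ∀ {p q : Bits} {p' q' : S}, ev z i j i' j' p = x * p' * x⁻¹ →
      ev z i j i' j' q = x * q' * x⁻¹ → ev z i j i' j' (bmul p q) = x * (p' * q') * x⁻¹ :=
    fun hp hq' => by rw [ev_bmul hq, hp, hq', hab]
  have model : ∀ {p q r t : Bits}, bmul p q = bmul r t →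
      ev z i j i' j' p * ev z i j i' j' q = ev z i j i' j' r * ev z i j i' j' t :=
    fun e => by rw [← ev_bmul hq, ← ev_bmul hq, e]
  have c1 : bmul u u = bz := einj (by rw [emul hu hu, hq.ii, ez])
  have c2 : bmul ba u = bmul u ba := rel ea hu hu ea
    (by simpa only [ev_a, ev_i] using model (show bmul ba bi = bmul bi ba by decide))
  have c3 : bmul bb u = bmul bz (bmul u bb) := rel eb hu ez (emul hu eb)
    (by simpa only [ev_bmul hq, ev_b, ev_i, ev_z] using
      model (show bmul bb bi = bmul bz (bmul bi bb) by decide))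
  have c4 : bmul v v = bz := einj (by rw [emul hv hv, hq.jj, ez])
  have c5 : bmul bb v = bmul v bb := rel eb hv hv eb
    (by simpa only [ev_b, ev_j] using model (show bmul bb bj = bmul bj bb by decide))
  have c6 : bmul ba v = bmul bz (bmul v ba) := rel ea hv ez (emul hv ea)
    (by simpa only [ev_bmul hq, ev_a, ev_j, ev_z] using
      model (show bmul ba bj = bmul bz (bmul bj ba) by decide))
  have c7 : bmul v u = bmul bz (bmul u v) := rel hv hu ez (emul hu hv) hq.ji
  rcases images u c1 c2 c3 v c4 c5 c6 c7 with ⟨hu', hv'⟩ | ⟨hu', hv'⟩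
  · -- the automorphism is inner
    exfalso
    -- conjugation by `j j'` changes the sign of `i`, by `i i'` that of `j`
    obtain ⟨q, hqQ, hqi, hqj, hqA⟩ : ∃ q ∈ Q, q * i * q⁻¹ = x * i * x⁻¹ ∧
        q * j * q⁻¹ = x * j * x⁻¹ ∧ q ∈ four Q i j i' j' := by
      have fl : ∀ w ∈ ({bmul b1 b1, bmul bb b1, bmul ba b1, bmul ba bb} : Finset Bits),
          InA w := by decide
      have mk : ∀ w : Bits, InA w → bmul w bi = bmul u w → bmul w bj = bmul v w →
          ∃ q ∈ Q, q * i * q⁻¹ = x * i * x⁻¹ ∧ q * j * q⁻¹ = x * j * x⁻¹ ∧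
            q ∈ four Q i j i' j' := by
        intro w hw h1 h2
        refine ⟨_, ev_mem h w, ?_, ?_, (ev_mem_four h).2 hw⟩
        · rw [← hu, mul_inv_eq_iff_eq_mul]
          simpa only [ev_i] using model h1
        · rw [← hv, mul_inv_eq_iff_eq_mul]
          simpa only [ev_j] using model h2
      rcases hu' with rfl | rfl <;> rcases hv' with rfl | rfl
      · exact mk (bmul b1 b1) (fl _ (by simp)) (by decide) (by decide)
      · exact mk (bmul ba b1) (fl _ (by simp)) (by decide) (by decide)
      · exact mk (bmul bb b1) (fl _ (by simp)) (by decide) (by decide)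
      · exact mk (bmul ba bb) (fl _ (by simp)) (by decide) (by decide)
    have hfix : ∀ g ∈ ({i, j, i * i', j * j'} : Set S), Commute (q⁻¹ * x) g := by
      have mkc : ∀ g : S, q * g * q⁻¹ = x * g * x⁻¹ → Commute (q⁻¹ * x) g := fun g e => by
        show q⁻¹ * x * g = g * (q⁻¹ * x)
        calc q⁻¹ * x * g = q⁻¹ * (x * g * x⁻¹) * x := by group
          _ = q⁻¹ * (q * g * q⁻¹) * x := by rw [e]
          _ = _ := by group
      intro g hg
      refine mkc g ?_
      rcases hg with e | e | e | e
      · subst e; exact hqi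
      · subst e; exact hqj
      · subst e; rw [hxa, hcm q hqA _ haA, mul_inv_cancel_right]
      · rw [Set.mem_singleton_iff] at e; subst e
        rw [hxb, hcm q hqA _ hbA, mul_inv_cancel_right]
    have hcl : Subgroup.closure ({i, j, i', j'} : Set S) ≤
        Subgroup.centralizer ({q⁻¹ * x} : Set S) := by
      rw [Subgroup.closure_le]
      intro g hg
      have m : ∀ g ∈ ({i, j, i * i', j * j'} : Set S),
          g ∈ Subgroup.centralizer ({q⁻¹ * x} : Set S) := fun g hg => by
        rw [Subgroup.mem_centralizer_singleton_iff]; exact (hfix g hg).eq.symm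
      rcases hg with e | e | e | e
      · subst e; exact m _ (by simp)
      · subst e; exact m _ (by simp)
      · subst e; simpa using mul_mem (inv_mem (m i (by simp))) (m (i * g) (by simp))
      · rw [Set.mem_singleton_iff] at e; subst e
        simpa using mul_mem (inv_mem (m j (by simp))) (m (j * g) (by simp))
    refine hxQ ?_
    have : q⁻¹ * x ∈ Q := hC (Subgroup.mem_centralizer_iff.2 fun g hg =>
      Subgroup.mem_centralizer_singleton_iff.1 (hcl (h.gen g hg)))
    simpa using mul_mem hqQ this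
  · have hsim : ∀ {p w : Bits}, p = w ∨ p = bmul bz w →
        Sim z (ev z i j i' j' w) (ev z i j i' j' p) := by
      rintro p w (rfl | rfl)
      · exact Or.inl rfl
      · exact Or.inr (by rw [ev_bmul hq, ev_z])
    have ei : x * i' * x⁻¹ = (x * i * x⁻¹)⁻¹ * (i * i') := by
      conv_rhs => rw [← hxa]
      group
    have ej : x * j' * x⁻¹ = (x * j * x⁻¹)⁻¹ * (j * j') := by
      conv_rhs => rw [← hxb]
      group
    have solve : ∀ {p w r : Bits} {g m t : S}, ev z i j i' j' p = g → ev z i j i' j' r = m →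
        ev z i j i' j' w = t → (bmul p w = r ∨ bmul p (bmul bz w) = r) →
        Sim z t (g⁻¹ * m) := by
      rintro p w r g m t rfl rfl rfl (e | e)
      · exact Or.inl (by rw [← e, ev_bmul hq, inv_mul_cancel_left])
      · exact Or.inr (by rw [← e, ev_bmul hq, inv_mul_cancel_left, ev_bmul hq, ev_z])
    refine ⟨?_, ?_, ?_, ?_⟩
    · simpa only [hu, ev_i'] using hsim hu'
    · simpa only [hv, ev_j'] using hsim hv'
    · rw [ei]; exact solve hu ev_a ev_i (by rcases hu' with rfl | rfl <;> decide)
    · rw [ej]; exact solve hv ev_b ev_j (by rcases hv' with rfl | rfl <;> decide)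

omit [Finite S] in
theorem not_sim (h : Frame Q z i j i' j') (g : S) (hg : Sim z i g) (hg' : Sim z (i * j) g) :
    j = 1 ∨ j = z := by
  have hzz := h.quad.zz
  rcases hg with rfl | rfl <;> rcases hg' with e | e
  · exact Or.inl (by simpa using e.symm)
  · refine Or.inr ?_
    rw [← mul_assoc, h.quad.zi.eq, mul_assoc] at e
    have := mul_left_cancel (a := g) (b := (1 : S)) (by simpa using e)
    calc j = (z * z) * j := by rw [hzz, one_mul]
      _ = z * (z * j) := mul_assoc _ _ _
      _ = z := by rw [← this, mul_one]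
  · refine Or.inr ?_
    rw [h.quad.zi.eq] at e
    exact (mul_left_cancel e).symm
  · exact Or.inl (by simpa using (mul_left_cancel e).symm)

/-- One of the two candidates is self-centralizing. -/
theorem exists_self_centralizing (hS : IsPGroup 2 S) (h : Frame Q z i j i' j')
    (hC : Subgroup.centralizer (Q : Set S) ≤ Q) :
    ∃ A : Subgroup S, (∀ x ∈ A, ∀ y ∈ A, x * y = y * x) ∧ (∀ x ∈ A, x ^ 2 = 1) ∧
      Nat.card A = 8 ∧ Subgroup.centralizer (A : Set S) = A := by
  by_contra hcon
  push Not at hcon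
  have step : ∀ {i' j' : S}, Frame Q z i j i' j' → ∃ x : S,
      x * z * x⁻¹ = z ∧ Sim z i' (x * i * x⁻¹) ∧ Sim z j' (x * j * x⁻¹) ∧
      Sim z i (x * i' * x⁻¹) ∧ Sim z j (x * j' * x⁻¹) := by
    intro i' j' h
    obtain ⟨hcm, hsq, hcard, hnorm, hzA, haA, hbA⟩ := four_spec h
    have hne := hcon (four Q i j i' j') hcm hsq hcard
    set A := four Q i j i' j' with hA
    have hAC : A ≤ Subgroup.centralizer (A : Set S) := fun a ha =>
      Subgroup.mem_centralizer_iff.2 fun b hb => hcm b hb a ha
    obtain ⟨c, hc, hcA⟩ := Set.exists_of_ssubset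
      (lt_of_le_of_ne hAC (fun e => hne e.symm) : A < Subgroup.centralizer (A : Set S))
    have hcQ : c ∉ Q := fun hcQ => hcA (mem_four_iff.2 ⟨hcQ,
      (Subgroup.mem_centralizer_iff.1 hc _ haA).symm,
      (Subgroup.mem_centralizer_iff.1 hc _ hbA).symm⟩)
    set C := Subgroup.centralizer (A : Set S) with hCdef
    have hQC : Q ≤ Subgroup.normalizer (C : Set S) := by
      intro g hg
      rw [Subgroup.mem_normalizer_iff]
      have key : ∀ g ∈ Q, ∀ y ∈ C, g * y * g⁻¹ ∈ C := by
        intro g hg y hy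
        rw [hCdef, Subgroup.mem_centralizer_iff]
        intro a ha
        have ha' : g⁻¹ * a * g ∈ A := by
          simpa using (Subgroup.mem_normalizer_iff.1 (hnorm (inv_mem hg)) a).1 ha
        have e := Subgroup.mem_centralizer_iff.1 hy _ ha'
        calc a * (g * y * g⁻¹) = g * (g⁻¹ * a * g * y) * g⁻¹ := by group
          _ = g * (y * (g⁻¹ * a * g)) * g⁻¹ := by rw [e]
          _ = _ := by group
      exact fun y => ⟨key g hg y, fun hy => by
        simpa [mul_assoc] using key g⁻¹ (inv_mem hg) _ hy⟩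
    have : Fact (Nat.Prime 2) := ⟨Nat.prime_two⟩
    have hnil : Group.IsNilpotent ↥(Q ⊔ C) := (hS.to_subgroup _).isNilpotent
    have hlt : Q.subgroupOf (Q ⊔ C) < ⊤ := lt_top_iff_ne_top.2 fun e =>
      hcQ (Subgroup.subgroupOf_eq_top.1 e (Subgroup.mem_sup_right hc))
    obtain ⟨⟨y, hyU⟩, hyN, hyQ⟩ := Set.exists_of_ssubset
      (Group.normalizerCondition_of_isNilpotent _ hlt)
    obtain ⟨q, hq, x, hx, rfl⟩ : ∃ q ∈ Q, ∃ x ∈ C, q * x = y := by
      have := hyU
      rw [← SetLike.mem_coe, Subgroup.coe_mul_of_left_le_normalizer_right Q C hQC] at this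
      exact this
    have hxQ : x ∉ Q := fun e => hyQ (mul_mem hq e)
    have hxfix : ∀ g ∈ A, x * g * x⁻¹ = g := fun g hg => by
      rw [← Subgroup.mem_centralizer_iff.1 hx g hg, mul_inv_cancel_right]
    have hxN : ∀ g ∈ Q, x * g * x⁻¹ ∈ Q := fun g hg => by
      have := ((Subgroup.mem_normalizer_iff.1 hyN) ⟨g, Subgroup.mem_sup_left hg⟩).1
        (Subgroup.mem_subgroupOf.2 hg)
      have h' : q * x * g * (q * x)⁻¹ ∈ Q := this
      simpa [mul_assoc] using mul_mem (mul_mem (inv_mem hq) h') hq
    exact ⟨x, hxfix z hzA, swap h hC hxQ hxN hxfix⟩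
  obtain ⟨x₁, hz₁, a1, b1', -, -⟩ := step h
  obtain ⟨x₂, hz₂, -, -, c2, d2⟩ := step h.second
  have hzz := h.quad.zz
  set y := x₂ * x₁ with hy
  have hyz : y * z * y⁻¹ = z := by
    calc y * z * y⁻¹ = x₂ * (x₁ * z * x₁⁻¹) * x₂⁻¹ := by rw [hy]; group
      _ = z := by rw [hz₁, hz₂]
  have comp : ∀ g : S, y * g * y⁻¹ = x₂ * (x₁ * g * x₁⁻¹) * x₂⁻¹ := fun g => by rw [hy]; group
  have e2 : Sim z (i * j) (x₂ * i' * x₂⁻¹) := by
    have e : x₂ * i' * x₂⁻¹ = x₂ * (i' * j') * x₂⁻¹ * (x₂ * j' * x₂⁻¹)⁻¹ := by group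
    have eji : j * i⁻¹ = i * j := by
      rw [mul_inv_eq_iff_eq_mul]
      calc j = (z * z) * j := by rw [hzz, one_mul]
        _ = z * (i * (i * j)) := by rw [← mul_assoc i i, h.quad.ii, mul_assoc]
        _ = i * (z * (i * j)) := by rw [← mul_assoc, h.quad.zi.eq, mul_assoc]
        _ = i * j * i := by rw [← h.quad.ji, mul_assoc]
    rw [e]
    have hzinv : z⁻¹ = z := inv_eq_of_mul_eq_one_right hzz
    rcases c2 with hc | hc <;> rcases d2 with hd | hd <;> rw [hc, hd]
    · exact Or.inl eji
    · exact Or.inr (by rw [mul_assoc, eji])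
    · refine Or.inr ?_
      rw [mul_inv_rev, hzinv, ← mul_assoc, eji]
      exact ((h.quad.zi.mul_right h.quad.zj).eq).symm
    · refine Or.inl ?_
      rw [mul_inv_rev, hzinv, ← mul_assoc, mul_assoc z j, eji,
        (h.quad.zi.mul_right h.quad.zj).eq, mul_assoc, hzz, mul_one]
  have yi : Sim z (i * j) (y * i * y⁻¹) := by rw [comp]; exact a1.map hz₂ hzz e2
  have yj : Sim z i (y * j * y⁻¹) := by rw [comp]; exact b1'.map hz₂ hzz c2
  have yk : Sim z j (y * (i * j) * y⁻¹) := by
    have e : y * (i * j) * y⁻¹ = y * i * y⁻¹ * (y * j * y⁻¹) := by group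
    have eiji : i * j * i = j := by
      calc i * j * i = i * (z * (i * j)) := by rw [mul_assoc, h.quad.ji]
        _ = z * (i * i) * j := by rw [← mul_assoc, ← h.quad.zi.eq]; group
        _ = j := by rw [h.quad.ii, hzz, one_mul]
    rw [e]
    rcases yi with hc | hc <;> rcases yj with hd | hd <;> rw [hc, hd]
    · exact Or.inl eiji
    · exact Or.inr (by rw [← mul_assoc, ← (h.quad.zi.mul_right h.quad.zj).eq, mul_assoc, eiji])
    · exact Or.inr (by rw [mul_assoc, eiji])
    · exact Or.inl (by rw [mul_assoc, ← mul_assoc (i * j), ← (h.quad.zi.mul_right h.quad.zj).eq,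
        mul_assoc z, eiji, ← mul_assoc, hzz, one_mul])
  have y3 : Sim z i (y ^ 3 * i * (y ^ 3)⁻¹) := by
    have e : y ^ 3 * i * (y ^ 3)⁻¹ = y * (y * (y * i * y⁻¹) * y⁻¹) * y⁻¹ := by
      rw [pow_three]; group
    rw [e]
    exact (yi.map hyz hzz yk).map hyz hzz yj
  have hz3 : ∀ m : ℕ, y ^ m * z * (y ^ m)⁻¹ = z := by
    intro m
    induction m with
    | zero => simp
    | succ m ih =>
      calc y ^ (m + 1) * z * (y ^ (m + 1))⁻¹ = y * (y ^ m * z * (y ^ m)⁻¹) * y⁻¹ := by
            rw [pow_succ']; group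
        _ = z := by rw [ih, hyz]
  have y3m : ∀ m : ℕ, Sim z i ((y ^ 3) ^ m * i * ((y ^ 3) ^ m)⁻¹) := by
    intro m
    induction m with
    | zero => exact Or.inl (by simp)
    | succ m ih =>
      rw [show (y ^ 3) ^ (m + 1) * i * ((y ^ 3) ^ (m + 1))⁻¹ =
        y ^ 3 * ((y ^ 3) ^ m * i * ((y ^ 3) ^ m)⁻¹) * (y ^ 3)⁻¹ by rw [pow_succ']; group]
      exact ih.map (hz3 3) hzz y3
  have hco : Nat.Coprime 3 (orderOf y) := by
    obtain ⟨k, hk⟩ := hS y
    refine Nat.Coprime.coprime_dvd_right (orderOf_dvd_of_pow_eq_one hk) ?_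
    exact Nat.Coprime.pow_right k (by norm_num)
  obtain ⟨m, hm⟩ := exists_pow_eq_self_of_coprime hco
  have yfix : Sim z i (y * i * y⁻¹) := by
    have := y3m m
    rwa [hm] at this
  rcases not_sim h _ yfix yi with e | e
  · have h2 := h.quad.jj
    rw [e, one_mul] at h2
    exact absurd (ev_inj h (a₁ := b1) (a₂ := bz) (by rw [ev_one, ev_z, h2])) (by decide)
  · exact absurd (ev_inj h (a₁ := bj) (a₂ := bz) (by rw [ev_j, ev_z, e])) (by decide)

end Cfsg.Agent.Lib.HaradaRank.CentralQ8
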