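import Cfsg.Agent.Lib.HaradaRank.Split

/-!
# Sectional rank at most four from an involution with small fixed point group on `C_S(B)`
-/

set_option autoImplicit false

namespace Cfsg.Agent.Lib.HaradaRank

open Subgroup

variable {S : Type*} [Group S] [Finite S] {B : Subgroup S} {a : S}

theorem relIndex_mul_four_le (hS : IsPGroup 2 S) {W T : Subgroup S} {w w' : S} (hWT : W ≤ T)
    (hw : w ∈ W) (hw' : w' ∈ W) (h1 : w ≠ 1) (h1' : w' ≠ 1) (hne : w ≠ w') :
    4 * W.relIndex T ≤ Nat.card T := by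
  classical
  have := Fact.mk Nat.prime_two
  have h2 := card_mul_index (W.subgroupOf T)
  rw [Nat.card_congr (subgroupOfEquivOfLe hWT).toEquiv] at h2
  have h3 : ({1, w, w'} : Set S).ncard ≤ Nat.card W := by
    rw [← SetLike.coe_sort_coe, Nat.card_coe_set_eq]
    exact Set.ncard_le_ncard (by
      rintro x (rfl | rfl | rfl)
      exacts [W.one_mem, hw, hw'])
  rw [Set.ncard_eq_three.2 ⟨1, w, w', h1.symm, h1'.symm, hne, rfl⟩] at h3
  obtain ⟨k, hk⟩ := IsPGroup.iff_card.1 (hS.to_subgroup W)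
  have hk2 : 2 ≤ k := by
    by_contra hlt
    interval_cases k <;> omega
  have h4 : 4 ≤ Nat.card W :=
    hk ▸ (show 2 ^ 2 ≤ 2 ^ k from Nat.pow_le_pow_right (by norm_num) hk2)
  calc 4 * W.relIndex T ≤ Nat.card W * W.relIndex T := Nat.mul_le_mul_right _ h4
    _ = _ := h2

/-- With at least three values all of four possible values occur. -/
theorem values_surj (hS : IsPGroup 2 S) {α : Type*} [DecidableEq α] (K : Subgroup S) [K.Normal]
    (T : Subgroup S) (f : S → α) (s : Finset α) (hs : ∀ y ∈ T, f y ∈ s)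
    (hf : ∀ x ∈ T, ∀ y ∈ T, f x = f y → QuotientGroup.mk' K x = QuotientGroup.mk' K y)
    (h3 : 3 ≤ Nat.card (T.map (QuotientGroup.mk' K))) (hs4 : s.card ≤ 4) {z : α} (hz : z ∈ s) :
    ∃ t ∈ T, f t = z := by
  by_contra hcon
  push Not at hcon
  have := card_map_le_of_values (QuotientGroup.mk' K) T f (s.erase z)
    (fun y hy => Finset.mem_erase.2 ⟨hcon y hy, hs y hy⟩) hf
  rw [Finset.card_erase_of_mem hz] at this
  obtain ⟨k, hk⟩ := IsPGroup.iff_card.1
    ((hS.to_subgroup T).map (QuotientGroup.mk' K))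
  rw [hk] at this h3
  have : k ≤ 1 := by
    by_contra hlt
    have : 2 ^ 2 ≤ 2 ^ k := Nat.pow_le_pow_right (by norm_num) (by omega)
    omega
  interval_cases k <;> omega

omit [Finite S] in
theorem act_of_mk [(centralizer (B : Set S)).Normal] {g t b : S}
    (h : t⁻¹ * g ∈ centralizer (B : Set S)) (hb : b ∈ B) : g * b * g⁻¹ = t * b * t⁻¹ := by
  have := EightNormal.mem_centralizer.1 h b hb
  calc g * b * g⁻¹ = t * (t⁻¹ * g * b * (t⁻¹ * g)⁻¹) * t⁻¹ := by group
    _ = _ := by rw [this]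

namespace Inv

theorem mid_le_four [B.Normal] (h : Inv B a) (hS : IsPGroup 2 S) {M : Subgroup S} (hM : Mid B a M)
    {W T : Subgroup (S ⧸ B)} (hT : T ≤ (centralizer (B : Set S)).map (QuotientGroup.mk' B))
    (hWT : W ≤ T) (hsq : ∀ x ∈ T, x * x ∈ W) :
    W.relIndex T ≤ 4 ∧
      (T ⊓ M.map (QuotientGroup.mk' B) = ⊥ → W.relIndex T ≤ 2) := by
  set Mb := M.map (QuotientGroup.mk' B)
  have hKM := map_index_two hM.le hM.leK hM.index
  have h1 : W.relIndex T ≤ (W ⊓ Mb).relIndex T :=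
    relIndex_le_of_le_left inf_le_left (ne_of_gt (Nat.pos_of_ne_zero index_ne_zero_of_finite))
  have h2 : (W ⊓ Mb).relIndex (T ⊓ Mb) * (T ⊓ Mb).relIndex T = (W ⊓ Mb).relIndex T :=
    relIndex_mul_relIndex _ _ _ (inf_le_inf_right _ hWT) inf_le_left
  have h3 : (T ⊓ Mb).relIndex T ≤ 2 := by
    rw [inf_relIndex_left]
    calc Mb.relIndex T ≤ Mb.relIndex ((centralizer (B : Set S)).map (QuotientGroup.mk' B)) :=
          relIndex_le_of_le_right hT (by rw [hKM]; norm_num)
      _ = 2 := hKM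
  refine ⟨?_, fun e => ?_⟩
  · have h4 : (W ⊓ Mb).relIndex (T ⊓ Mb) ≤ 2 :=
      relIndex_le_two_of_cyclic (isCyclic_le (h.cyclic_mid hS hM) inf_le_right) fun x hx =>
        ⟨hsq x hx.1, mul_mem hx.2 hx.2⟩
    calc _ ≤ _ := h1
      _ = _ := h2.symm
      _ ≤ 2 * 2 := Nat.mul_le_mul h4 h3
  · calc _ ≤ _ := h1
      _ = _ := h2.symm
      _ ≤ 1 * 2 := Nat.mul_le_mul (by rw [e, relIndex_bot_right]) h3

/-- The invariant `i` lies in `W`. -/
theorem inv_sq_mem [B.Normal] (hS : IsPGroup 2 S) {M : Subgroup S} (hM : Mid B a M)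
    {W T : Subgroup S} (hsi : SqIn W T) {i : S}
    (hkey : ∀ y ∈ M, y ∉ B → y * y ∈ B → y * y = i)
    (hne : (T ⊓ centralizer (B : Set S)).map (QuotientGroup.mk' B) ⊓
      M.map (QuotientGroup.mk' B) ≠ ⊥) : i ∈ W := by
  have := Fact.mk Nat.prime_two
  set π := QuotientGroup.mk' B
  obtain ⟨q, hq, hqo⟩ := PGroups.exists_orderOf_eq_prime_of_ne_bot (p := 2)
    ((hS.to_quotient B).to_subgroup _) hne
  obtain ⟨⟨y, hy, rfl⟩, z, hz, hzy⟩ := hq
  have hyM : y ∈ M := by simpa using mul_mem hz (hM.le (mk_eq_mk_iff.1 hzy))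
  have hy2 : y * y ∈ B := mk_eq_one_iff.1 (by
    change π (y * y) = 1
    rw [map_mul, ← sq, ← hqo, pow_orderOf_eq_one])
  have hyB : y ∉ B := fun e => by
    rw [mk_eq_one_iff.2 e, orderOf_one] at hqo
    norm_num at hqo
  exact hkey y hyM hyB hy2 ▸ hsi.sq y hy.1

omit [Finite S] in
theorem comm_of_le [B.Normal] (h : Inv B a) {M : Subgroup S} (hM : Mid B a M) (hMB : M ≤ B)
    {x y : S} (hx : x ∈ centralizer (B : Set S)) (hy : y ∈ centralizer (B : Set S)) :
    x * y = y * x := by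
  by_cases hxB : x ∈ B
  · exact h.commBK hxB hy
  by_cases hyB : y ∈ B
  · exact (h.commBK hyB hx).symm
  have h1 : x * y ∈ B := hMB (mul_mem_two hM.index hx hy (fun e => hxB (hMB e))
    fun e => hyB (hMB e))
  have := h.commBK h1 hx
  calc x * y = x⁻¹ * (x * (x * y)) := by group
    _ = x⁻¹ * ((x * y) * x) := by rw [this]
    _ = y * x := by group

omit [Finite S] in
theorem not_le_of_meet [B.Normal] {M : Subgroup S} {L : Subgroup (S ⧸ B)}
    (hne : L ⊓ M.map (QuotientGroup.mk' B) ≠ ⊥) : ¬ M ≤ B := fun e => hne <| by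
  rw [(Subgroup.map_eq_bot_iff M).2 (by rwa [QuotientGroup.ker_mk']), inf_bot_eq]

/-- **Core theorem.** -/
theorem sectional (h : Inv B a) (hS : IsPGroup 2 S) : Cfsg.SectionalPRankLE 2 4 S := by
  classical
  have := Fact.mk Nat.prime_two
  have := h.eight.normal
  have : (centralizer (B : Set S)).Normal := h.eight.centralizer_normal
  refine sectional_of_relIndex fun T W hWT hsq => ?_
  have hsi : SqIn W T := ⟨hWT, hsq⟩
  rw [h.eight.split hWT]
  have hmid16 := h.eight.le_sixteen_of_mid hS hsi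
  rw [h.eight.split hWT] at hmid16
  set K := centralizer (B : Set S) with hKdef
  set π := QuotientGroup.mk' B
  set n := (W.map (QuotientGroup.mk' K)).relIndex (T.map (QuotientGroup.mk' K)) with hn
  set δ := ((W ⊓ K).map π).relIndex ((T ⊓ K).map π) with hδ
  set β := (W ⊓ B).relIndex (T ⊓ B) with hβ
  have hδ0 : δ ≠ 0 := index_ne_zero_of_finite
  by_cases hδ1 : δ = 1
  · exact hmid16 hδ1
  have hδ2 : 2 ≤ δ := by omega
  have hn4 : n ≤ 4 := h.eight.top_le_four hS hsi
  have hβ8 : β ≤ 8 := h.eight.bot_le_eight W T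
  have hWTK : (W ⊓ K).map π ≤ (T ⊓ K).map π := map_mono (inf_le_inf_right _ hWT)
  have hsqK : ∀ x ∈ (T ⊓ K).map π, x * x ∈ (W ⊓ K).map π := by
    rintro _ ⟨x, hx, rfl⟩
    exact ⟨x * x, ⟨hsq x hx.1, mul_mem hx.2 hx.2⟩, map_mul π x x⟩
  have hKB : ¬ K ≤ B := fun e => hδ1 (by
    rw [hδ, (Subgroup.map_eq_bot_iff (T ⊓ K)).2
      (by rw [QuotientGroup.ker_mk']; exact inf_le_right.trans e), relIndex_bot_right])
  obtain ⟨M, hM⟩ := h.exists_mid hS hKB
  obtain ⟨hδ4, hδM⟩ : δ ≤ 4 ∧ ((T ⊓ K).map π ⊓ M.map π = ⊥ → δ ≤ 2) :=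
    h.mid_le_four hS hM (map_mono inf_le_right) hWTK hsqK
  obtain ⟨v, c, hv, hvne, hc, hac, hc1, hvc, hmove⟩ := h.exists_vc
  have hvI : v ∉ B ⊓ centralizer ({a} : Set S) := fun e => hvne (h.memI.1 e).2
  have hcI : c ∈ B ⊓ centralizer ({a} : Set S) := h.memI.2 ⟨hc, hac⟩
  have hcard8 : Nat.card (T ⊓ B : Subgroup S) ≤ 8 := h.eight.card ▸ card_le_of_le inf_le_right
  have hiW : (T ⊓ K).map π ⊓ M.map π ≠ ⊥ →
      ∃ i, i ∈ W ⊓ B ∧ i ≠ 1 ∧ i ≠ c := fun hne => by
    obtain ⟨i, hi, hi1, -, hic, -, hkey⟩ := h.exists_inv_sq hS hM (not_le_of_meet hne) hv hvc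
    exact ⟨i, ⟨inv_sq_mem hS hM hsi hkey hne, hi⟩, hi1, hic⟩
  have hWB : W ⊓ B ≤ T ⊓ B := inf_le_inf_right _ hWT
  rcases le_or_gt n 1 with hn1 | hn2
  · -- `T ≤ W K`
    rcases le_or_gt δ 2 with hd | hd
    · calc _ ≤ 1 * (2 * 8) := Nat.mul_le_mul hn1 (Nat.mul_le_mul hd hβ8)
        _ = 16 := rfl
    · obtain ⟨i, hiWB, hi1, -⟩ := hiW fun e => by
        have := hδM e
        omega
      have hb := relIndex_mul_two_le hWB hiWB hi1
      have hb4 : β ≤ 4 := by omega
      calc _ ≤ 1 * (4 * 4) := Nat.mul_le_mul hn1 (Nat.mul_le_mul hδ4 hb4)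
        _ = 16 := rfl
  obtain ⟨t₀, ht₀, ht₀K⟩ := EightNormal.exists_not_mem (B := B) (W := W) (T := T) hn2
  have hβ4 : β ≤ 4 := h.eight.bot_le_four hsi ht₀ ht₀K
  have hnT : n ≤ Nat.card (T.map (QuotientGroup.mk' K)) := relIndex_le_card _ _
  have hTBsmall : ¬ B ≤ T → Nat.card (T ⊓ B : Subgroup S) ≤ 4 := fun hBT => by
    have h1 : T ⊓ B < B := lt_of_le_of_ne inf_le_right fun e => hBT (e ▸ inf_le_left)
    have h2 := card_dvd_of_le h1.le
    have h3 : Nat.card (T ⊓ B : Subgroup S) ≠ Nat.card B := fun e =>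
      h1.ne (eq_of_le_of_card_ge h1.le e.ge)
    rw [h.eight.card] at h2 h3
    have := Nat.le_of_dvd (by norm_num) h2
    interval_cases Nat.card (T ⊓ B : Subgroup S) <;> omega
  rcases le_or_gt n 2 with hn2' | hn3
  · rcases le_or_gt δ 2 with hd | hd
    · calc _ ≤ 2 * (2 * 4) := Nat.mul_le_mul hn2' (Nat.mul_le_mul hd hβ4)
        _ = 16 := rfl
    have hne : (T ⊓ K).map π ⊓ M.map π ≠ ⊥ := fun e => by
      have := hδM e
      omega
    obtain ⟨i, hiWB, hi1, hic⟩ := hiW hne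
    have hall : a * t₀ ∈ K := by
      by_contra hat
      have hcyc := h.cyclic_of_outside hS hM (not_le_of_meet hne) ht₀K hat
      have : δ ≤ 2 := relIndex_le_two_of_cyclic (isCyclic_le hcyc (map_mono inf_le_right)) hsqK
      omega
    have hact : ∀ b ∈ B, t₀ * b * t₀⁻¹ = a * b * a := fun b hb => by
      rw [act_of_mk (g := t₀) (t := a) (by rwa [h.ainv]) hb, h.ainv]
    have hb2 : β ≤ 2 := by
      by_cases hBT : B ≤ T
      · have hcW : c ∈ W ⊓ B := by
          refine ⟨?_, hc⟩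
          have := hsi.comm_mem ht₀ (hBT hv)
          rwa [hact v hv, hvc, h.eight.inv_eq hv, mul_assoc, h.eight.comm c hc v hv, ← mul_assoc,
            h.eight.sq v hv, one_mul] at this
        have := relIndex_mul_four_le hS hWB hiWB hcW hi1 hc1 hic
        omega
      · have := hTBsmall hBT
        have := relIndex_mul_two_le hWB hiWB hi1
        omega
    calc _ ≤ 2 * (4 * 2) := Nat.mul_le_mul hn2' (Nat.mul_le_mul hδ4 hb2)
      _ = 16 := rfl
  -- at least three cosets of `K`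
  have hT3 : 3 ≤ Nat.card (T.map (QuotientGroup.mk' K)) := le_trans hn3 hnT
  obtain ⟨t₁, -, ht₁K, hat₁⟩ : ∃ t ∈ T, t ∉ K ∧ a * t ∉ K := by
    by_contra hcon
    push Not at hcon
    have := card_map_le_of_values (QuotientGroup.mk' K) T (QuotientGroup.mk' K)
      ({1, QuotientGroup.mk' K a} : Finset (S ⧸ K))
      (fun y hy => by
        simp only [Finset.mem_insert, Finset.mem_singleton]
        by_cases hyK : y ∈ K
        · exact Or.inl (mk_eq_one_iff.2 hyK)
        · refine Or.inr (mk_eq_mk_iff.2 ?_).symm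
          rw [h.ainv]
          exact hcon y hy hyK)
      (fun _ _ _ _ e => e)
    have h2 := this.trans Finset.card_le_two
    omega
  have hcyc : IsCyclic (K.map π) := by
    by_cases hMB : M ≤ B
    · have h2 := map_index_two hM.le hM.leK hM.index
      rw [(Subgroup.map_eq_bot_iff M).2 (by rwa [QuotientGroup.ker_mk']), relIndex_bot_left] at h2
      exact isCyclic_of_prime_card h2
    · exact h.cyclic_of_outside hS hM hMB ht₁K hat₁
  have hδ' : δ ≤ 2 := relIndex_le_two_of_cyclic (isCyclic_le hcyc (map_mono inf_le_right)) hsqK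
  suffices hb : β ≤ 2 by
    calc _ ≤ 4 * (2 * 2) := Nat.mul_le_mul hn4 (Nat.mul_le_mul hδ' hb)
      _ = 16 := rfl
  by_contra hβ2
  push Not at hβ2
  have hLne : (T ⊓ K).map π ≠ ⊥ := fun e => hδ1 (by rw [hδ, e, relIndex_bot_right])
  have hiW' : ¬ M ≤ B → ∃ i, i ∈ W ⊓ B ∧ i ≠ 1 ∧ i ≠ c := fun hMB => hiW fun e => by
    obtain ⟨q, hq, hq1⟩ := ((T ⊓ K).map π).bot_or_exists_ne_one.resolve_left hLne
    obtain ⟨r, hr, hr2⟩ := PGroups.exists_orderOf_eq_prime_of_ne_bot (p := 2)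
      ((hS.to_quotient B).to_subgroup (M.map π))
      (by rw [Ne, Subgroup.map_eq_bot_iff, QuotientGroup.ker_mk']; exact hMB)
    obtain ⟨y, hy, rfl⟩ := hq
    have hyyM : y * y ∈ M := by
      by_cases hyM : y ∈ M
      · exact mul_mem hyM hyM
      · exact mul_mem_two hM.index hy.2 hy.2 hyM hyM
    have hq2 : π y * π y = 1 := by
      have : π y * π y ∈ (T ⊓ K).map π ⊓ M.map π :=
        ⟨mul_mem ⟨y, hy, rfl⟩ ⟨y, hy, rfl⟩, ⟨y * y, hyyM, map_mul π y y⟩⟩
      rwa [e, mem_bot] at this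
    have hr1 : r ≠ 1 := fun e' => by rw [e', orderOf_one] at hr2; norm_num at hr2
    have hqr : π y = r := invol_eq hcyc ⟨y, hy.2, rfl⟩ (map_mono hM.leK hr) hq2
      (by rw [← sq, ← hr2, pow_orderOf_eq_one]) hq1 hr1
    have : π y ∈ (T ⊓ K).map π ⊓ M.map π := ⟨⟨y, hy, rfl⟩, hqr ▸ hr⟩
    rw [e, mem_bot] at this
    exact hq1 this
  obtain ⟨x, hxL, hxB⟩ : ∃ x ∈ T ⊓ K, x ∉ B := by
    by_contra hcon
    push Not at hcon
    exact hLne ((Subgroup.map_eq_bot_iff _).2 (by rw [QuotientGroup.ker_mk']; exact hcon))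
  by_cases hBT : B ≤ T
  · rw [hβ, inf_eq_right.2 hBT] at hβ2
    obtain ⟨b₀, hb₀, hb₀ne⟩ : ∃ b ∈ B, t₀ * b * t₀⁻¹ ≠ b := by
      by_contra hcon
      push Not at hcon
      exact ht₀K (EightNormal.mem_centralizer.2 hcon)
    obtain ⟨ω, hω0⟩ : ∃ ω, ω = t₀ * b₀ * t₀⁻¹ * b₀⁻¹ := ⟨_, rfl⟩
    have hω : ω ∈ W ⊓ B := hω0 ▸
      ⟨hsi.comm_mem ht₀ (hBT hb₀), B.mul_mem (h.eight.conj_mem t₀ hb₀) (inv_mem hb₀)⟩
    have hω1 : ω ≠ 1 := hω0 ▸ fun e => hb₀ne (mul_inv_eq_one.1 e)
    have hWω : ∀ w ∈ W ⊓ B, w = 1 ∨ w = ω := fun w hw => by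
      by_contra hcon
      push Not at hcon
      have := relIndex_mul_four_le hS (T := B) inf_le_right hw hω hcon.1 hω1 hcon.2
      rw [h.eight.card] at this
      omega
    have hmod : ∀ t ∈ T, ∀ b ∈ B, t * b * t⁻¹ = b ∨ t * b * t⁻¹ = b * ω := fun t ht b hb => by
      rcases hWω _ ⟨hsi.comm_mem ht (hBT hb), B.mul_mem (h.eight.conj_mem t hb) (inv_mem hb)⟩
        with e | e
      · exact Or.inl (mul_inv_eq_one.1 e)
      · refine Or.inr ?_
        rw [mul_inv_eq_iff_eq_mul.1 e]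
        exact h.eight.comm ω hω.2 b hb
    have hTω : ∀ t ∈ T, t * ω * t⁻¹ = ω := fun t ht =>
      (hmod t ht ω hω.2).resolve_right fun e => hω1 (by
        rw [h.eight.sq ω hω.2] at e
        exact conj_eq_one_iff.1 e)
    -- fixed points of `T`
    have hfix : ∀ u ∈ B, (∀ t ∈ T, t * u * t⁻¹ = u) → u = 1 ∨ u = ω := by
      intro u hu hut
      by_contra hcon
      push Not at hcon
      let P : Subgroup S := B ⊓ centralizer (T : Set S)
      have hPmem : ∀ p ∈ B, (∀ t ∈ T, t * p * t⁻¹ = p) → p ∈ P := fun p hp hpt =>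
        ⟨hp, fun t ht => by
          calc t * p = (t * p * t⁻¹) * t := by group
            _ = p * t := by rw [hpt t ht]⟩
      have hP4 : 4 ∣ Nat.card P ∧ Nat.card P ∣ 8 := by
        refine ⟨?_, h.eight.card ▸ card_dvd_of_le inf_le_left⟩
        have := relIndex_mul_four_le hS (W := P) (T := P) le_rfl (hPmem u hu hut)
          (hPmem ω hω.2 hTω) hcon.1 hω1 hcon.2
        rw [relIndex_self, mul_one] at this
        obtain ⟨k, hk⟩ := IsPGroup.iff_card.1 (hS.to_subgroup P)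
        rw [hk] at this ⊢
        have : 2 ≤ k := by
          by_contra hlt
          interval_cases k <;> omega
        exact (show 2 ^ 2 ∣ 2 ^ k from Nat.pow_dvd_pow 2 this)
      have hP : Nat.card P = 4 := by
        have h8 := Nat.le_of_dvd (by norm_num) hP4.2
        have : Nat.card P ≠ 8 := fun e => ht₀K (EightNormal.mem_centralizer.2 fun b hb => by
          have hb' : b ∈ P := (eq_of_le_of_card_ge (inf_le_left : P ≤ B)
            (by rw [e, h.eight.card])).ge hb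
          rw [hb'.2 t₀ ht₀, mul_inv_cancel_right])
        obtain ⟨j, hj⟩ := hP4.1
        have := Nat.card_pos (α := P)
        omega
      obtain ⟨q, hq, hqP⟩ : ∃ q ∈ B, q ∉ P := by
        by_contra hc'
        push Not at hc'
        have := card_le_of_le (show B ≤ P from hc')
        rw [h.eight.card, hP] at this
        omega
      have h2 := card_map_le_of_values (QuotientGroup.mk' K) T (fun g => g * q * g⁻¹)
        ({q, q * ω} : Finset S)
        (fun y hy => by simpa using hmod y hy q hq)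
        (fun y₁ hy₁ y₂ hy₂ e => h.eight.mk_eq inf_le_left hP hq hqP (fun p hp => by
          rw [hp.2 y₁ hy₁, mul_inv_cancel_right, hp.2 y₂ hy₂, mul_inv_cancel_right]) e)
      have := h2.trans Finset.card_le_two
      omega
    obtain ⟨u, hu, hu1⟩ := ((B ⊓ center S).bot_or_exists_ne_one).resolve_left
      (PGroups.normal_inf_center_ne_bot hS B fun e => by
        have := h.eight.card; rw [e, Subgroup.card_bot] at this; norm_num at this)
    have hωu : u = ω := (hfix u hu.1 fun t _ => by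
      rw [mem_center_iff.1 hu.2 t, mul_inv_cancel_right]).resolve_left hu1
    have hωfix : ∀ g : S, g * ω * g⁻¹ = ω := fun g => by
      rw [← hωu, mem_center_iff.1 hu.2 g, mul_inv_cancel_right]
    have haω : a * ω * a = ω := by
      have := hωfix a
      rwa [h.ainv] at this
    have hωI : ω ∈ B ⊓ centralizer ({a} : Set S) := h.memI.2 ⟨hω.2, haω⟩
    -- realising actions inside `T`
    have hreal : ∀ p ∈ B ⊓ centralizer ({a} : Set S), p ≠ 1 → p ≠ ω → ∀ z₁ z₂ : S,
        (z₁ = p ∨ z₁ = p * ω) → (z₂ = v ∨ z₂ = v * ω) →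
        ∃ t ∈ T, t * p * t⁻¹ = z₁ ∧ t * v * t⁻¹ = z₂ ∧ ∀ g : S, g * ω * g⁻¹ = ω →
          g * p * g⁻¹ = z₁ → g * v * g⁻¹ = z₂ → t⁻¹ * g ∈ K := by
      intro p hp hp1 hpω z₁ z₂ hz₁ hz₂
      have hI : ∀ g g' : S, g * p * g⁻¹ = g' * p * g'⁻¹ →
          ∀ x ∈ B ⊓ centralizer ({a} : Set S), g * x * g⁻¹ = g' * x * g'⁻¹ := by
        intro g g' e x hx
        rcases mem_four h.cardI hωI hp hω1 hp1 hpω.symm (h.eight.sq ω hω.2) hx with
          e' | e' | e' | e' <;> rw [e']
        · simp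
        · rw [hωfix, hωfix]
        · exact e
        · rw [show g * (ω * p) * g⁻¹ = (g * ω * g⁻¹) * (g * p * g⁻¹) by group,
            show g' * (ω * p) * g'⁻¹ = (g' * ω * g'⁻¹) * (g' * p * g'⁻¹) by group, hωfix, hωfix, e]
      obtain ⟨t, ht, hte⟩ := values_surj hS K T (fun g => (g * p * g⁻¹, g * v * g⁻¹))
        (({p, p * ω} : Finset S) ×ˢ ({v, v * ω} : Finset S))
        (fun y hy => Finset.mem_product.2
          ⟨by simpa using hmod y hy p hp.1, by simpa using hmod y hy v hv⟩)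
        (fun y₁ _ y₂ _ e => h.eight.mk_eq inf_le_left h.cardI hv hvI
          (hI y₁ y₂ (Prod.ext_iff.1 e).1) (Prod.ext_iff.1 e).2)
        hT3 (by
          rw [Finset.card_product]
          exact le_trans (Nat.mul_le_mul Finset.card_le_two Finset.card_le_two) le_rfl)
        (z := (z₁, z₂)) (Finset.mem_product.2 ⟨by simpa using hz₁, by simpa using hz₂⟩)
      obtain ⟨e1, e2⟩ := Prod.ext_iff.1 hte
      exact ⟨t, ht, e1, e2, fun g _ g1 g2 => h.eight.act_eq inf_le_left h.cardI hv hvI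
        (hI g t (g1.trans e1.symm)) (g2.trans e2.symm)⟩
    by_cases hωc : ω = c
    · by_cases hMB : M ≤ B
      swap
      · obtain ⟨i, hi, hi1, hic⟩ := hiW' hMB
        exact hic (((hWω i hi).resolve_left hi1).trans hωc)
      obtain ⟨p, hp, hp1, hpω⟩ : ∃ p ∈ B ⊓ centralizer ({a} : Set S), p ≠ 1 ∧ p ≠ ω := by
        by_contra hcon
        push Not at hcon
        have hsub : ((B ⊓ centralizer ({a} : Set S) : Subgroup S) : Set S) ⊆ {1, ω} := fun y hy => by
          by_cases hy1 : y = 1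
          · exact Or.inl hy1
          · exact Or.inr (hcon y hy hy1)
        have h2 := Set.ncard_le_ncard hsub
        rw [← Nat.card_coe_set_eq, Set.ncard_pair hω1.symm] at h2
        change Nat.card (B ⊓ centralizer ({a} : Set S) : Subgroup S) ≤ 2 at h2
        rw [h.cardI] at h2
        omega
      obtain ⟨t, ht, -, -, ht'⟩ := hreal p hp hp1 hpω p (v * ω) (Or.inl rfl) (Or.inr rfl)
      have hta := ht' a (hωfix a) (by rw [h.ainv]; exact (h.memI.1 hp).2)
        (by rw [h.ainv, hvc, hωc])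
      have hkK : a⁻¹ * t ∈ K := by simpa using inv_mem hta
      have hconj : t * x * t⁻¹ = a * x * a := by
        have h1 := h.comm_of_le hM hMB hkK hxL.2
        calc t * x * t⁻¹ = a * ((a⁻¹ * t) * x) * t⁻¹ := by group
          _ = a * (x * (a⁻¹ * t)) * t⁻¹ := by rw [h1]
          _ = a * x * a⁻¹ := by group
          _ = _ := by rw [h.ainv]
      have hW' := hsi.comm_mem ht hxL.1
      rw [hconj] at hW'
      have hφB : x⁻¹ * (a * x * a) ∈ B := hMB (hM.phi x hxL.2)
      have hcommx : a * x * a * x⁻¹ = x⁻¹ * (a * x * a) :=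
        h.comm_of_le hM hMB (h.conjK hxL.2) (inv_mem hxL.2)
      rw [hcommx] at hW'
      refine hxB (h.mem_of_phi hv hvc hxL.2 ((hWω _ ⟨hW', hφB⟩).imp id fun e => e.trans hωc))
    · obtain ⟨t₂, ht₂, htc, htv, -⟩ := hreal c hcI hc1 (Ne.symm hωc) (c * ω) v (Or.inr rfl) (Or.inl rfl)
      obtain ⟨g1, g2, g3, g4⟩ := h.commutator_fixer hv hvc hc hac hc1 hω.2 haω hω1 hωc
        (hTω t₂ ht₂) htc (by rw [htv, h.eight.sq v hv, mul_one, h.asq])
      obtain ⟨g, hg0⟩ : ∃ g, g = a * (t₂ * a * t₂⁻¹) := ⟨_, rfl⟩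
      rw [← hg0] at g1 g2 g3 g4
      obtain ⟨hkK, hkM, -⟩ := h.fixer hS hM g1 g3 g4
      have hgg : a * (g * a * g⁻¹) = (g * g)⁻¹ := by
        have hp : (t₂ * a * t₂⁻¹)⁻¹ = t₂ * a * t₂⁻¹ := by
          rw [mul_inv_rev, mul_inv_rev, inv_inv, h.ainv, mul_assoc]
        have hginv : g⁻¹ = (t₂ * a * t₂⁻¹) * a := by rw [hg0, mul_inv_rev, hp, h.ainv]
        calc a * (g * a * g⁻¹) = (a * a) * (t₂ * a * t₂⁻¹) * a * g⁻¹ := by rw [hg0]; group
          _ = (t₂ * a * t₂⁻¹) * a * g⁻¹ := by rw [h.asq, one_mul]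
          _ = g⁻¹ * g⁻¹ := by rw [← hginv]
          _ = _ := (mul_inv_rev g g).symm
      rw [hgg] at hkK hkM
      have hggK : g * g ∈ K := by simpa using inv_mem hkK
      have hggM : g * g ∉ M := fun e => hkM (inv_mem e)
      obtain ⟨t', ht', -, -, htg⟩ := hreal c hcI hc1 (Ne.symm hωc) c (v * ω) (Or.inl rfl) (Or.inr rfl)
      have hk2 : g⁻¹ * t' ∈ K := by
        have := inv_mem (htg g (hωfix g) (g1 c hc hac) g2)
        simpa using this
      have hrest : g⁻¹ * (g⁻¹ * t') * g * (g⁻¹ * t') ∈ M := by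
        by_cases hk2M : g⁻¹ * t' ∈ M
        · exact mul_mem (by simpa using hM.normal.conj_mem _ hk2M g⁻¹) hk2M
        · refine mul_mem_two hM.index (by
            simpa using h.eight.centralizer_normal.conj_mem _ hk2 g⁻¹) hk2 (fun e => hk2M ?_) hk2M
          have := hM.normal.conj_mem _ e g
          simpa [mul_assoc] using this
      have e : t' * t' = g * g * (g⁻¹ * (g⁻¹ * t') * g * (g⁻¹ * t')) := by group
      have hqK : t' * t' ∈ K := e ▸ mul_mem hggK (hM.leK hrest)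
      have hqM : π (t' * t') ∉ M.map π := by
        rintro ⟨m, hm, hme⟩
        have h1 : t' * t' ∈ M := by simpa using mul_mem hm (hM.le (mk_eq_mk_iff.1 hme))
        exact hggM (by
          rw [e] at h1
          have := mul_mem h1 (inv_mem hrest)
          rwa [mul_inv_cancel_right] at this)
      have hgen := zpowers_eq_of_not_mem ((hS.to_quotient B).to_subgroup (K.map π)) hcyc
        (map_index_two hM.le hM.leK hM.index) (mem_map_of_mem π hqK) hqM
      refine hδ1 (relIndex_eq_one.2 ?_)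
      refine (map_mono inf_le_right).trans (hgen.trans (zpowers_le.2 ?_))
      exact mem_map_of_mem π ⟨hsq t' ht', hqK⟩
  · have hTB4 := hTBsmall hBT
    have hWB1 : ∀ w ∈ W ⊓ B, w = 1 := fun w hw => by
      by_contra hw1
      have := relIndex_mul_two_le hWB hw hw1
      omega
    by_cases hMB : M ≤ B
    swap
    · obtain ⟨i, hi, hi1, -⟩ := hiW' hMB
      exact hi1 (hWB1 i hi)
    obtain ⟨P, hP0⟩ : ∃ P : Subgroup S, P = T ⊓ B := ⟨_, rfl⟩
    have hP : Nat.card P = 4 := by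
      rw [hP0]
      have h1 := relIndex_le_card (W ⊓ B) (T ⊓ B)
      have h2 : Nat.card (T ⊓ B : Subgroup S) ∣ 8 := h.eight.card ▸ card_dvd_of_le inf_le_right
      obtain ⟨j, hj⟩ := IsPGroup.iff_card.1 (hS.to_subgroup (T ⊓ B))
      rw [hj] at h1 hTB4 ⊢
      have : 2 ≤ j := by
        by_contra hlt
        interval_cases j <;> omega
      have : j ≤ 2 := by
        by_contra hlt
        have : 2 ^ 3 ≤ 2 ^ j := Nat.pow_le_pow_right (by norm_num) (by omega)
        omega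
      interval_cases j
      norm_num
    have hPB : P ≤ B := hP0 ▸ inf_le_right
    have hPT : P ≤ T := hP0 ▸ inf_le_left
    have hTP : ∀ t ∈ T, ∀ p ∈ P, t * p * t⁻¹ = p := fun t ht p hp => mul_inv_eq_one.1
      (hWB1 _ ⟨hsi.comm_mem ht (hPT hp), B.mul_mem (h.eight.conj_mem t (hPB hp)) (inv_mem (hPB hp))⟩)
    have hTx : ∀ t ∈ T, t * x * t⁻¹ = x := fun t ht => mul_inv_eq_one.1 (hWB1 _
      ⟨hsi.comm_mem ht hxL.1, hMB (mul_mem_two hM.index (h.eight.centralizer_normal.conj_mem x hxL.2 t)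
        (inv_mem hxL.2) (fun e => hxB (by
          have := hM.normal.conj_mem _ e t⁻¹
          simpa [mul_assoc] using hMB this)) fun e => hxB (hMB (by simpa using inv_mem e)))⟩)
    have hP2 := relIndex_eq_two_of_card hPB (by rw [hP, h.eight.card])
    have hsurj : ∀ q ∈ B, q ∉ P → ∀ p ∈ P, ∃ t ∈ T, t * q * t⁻¹ = q * p := by
      intro q hq hqP p hp
      refine values_surj hS K T (fun g => g * q * g⁻¹) ((P : Set S).toFinite.toFinset.image (q * ·))
        (fun y hy => ?_) (fun y₁ hy₁ y₂ hy₂ e => h.eight.mk_eq hPB hP hq hqP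
          (fun r hr => by rw [hTP y₁ hy₁ r hr, hTP y₂ hy₂ r hr]) e) hT3 ?_ ?_
      · refine Finset.mem_image.2 ⟨q * (y * q * y⁻¹), ?_, by rw [← mul_assoc, h.eight.sq q hq, one_mul]⟩
        refine (Set.Finite.mem_toFinset _).2 ((mem_or_mem_of_relIndex_two hP2 hq hqP
          (h.eight.conj_mem y hq)).resolve_left fun e => hqP ?_)
        have := hTP y⁻¹ (inv_mem hy) _ e
        have e2 : y * q * y⁻¹ = q := by
          rw [← this]; group
        exact e2 ▸ e
      · refine Finset.card_image_le.trans ?_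
        rw [← Set.ncard_eq_toFinset_card, ← Nat.card_coe_set_eq]
        exact le_of_eq hP
      · exact Finset.mem_image.2 ⟨p, (Set.Finite.mem_toFinset _).2 hp, rfl⟩
    obtain ⟨H, hHn, hHB, hH⟩ := PGroups.exists_normal_le_card hS (k := 2) B
      (by rw [h.eight.card]; norm_num)
    have hPH : P = H := by
      by_contra hne
      obtain ⟨q, hq, hqP⟩ : ∃ q ∈ H, q ∉ P := by
        by_contra hcon
        push Not at hcon
        exact hne (eq_of_le_of_card_ge (show H ≤ P from hcon) (by rw [hP, hH]; norm_num)).symm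
      refine hne (eq_of_le_of_card_ge (fun p hp => ?_) (by rw [hP, hH]; norm_num))
      obtain ⟨t, -, hte⟩ := hsurj q (hHB hq) hqP p hp
      have h1 : q * p ∈ H := hte ▸ hHn.conj_mem q hq t
      simpa using H.mul_mem (H.inv_mem hq) h1
    have hPn : P.Normal := hPH ▸ hHn
    have hcommK : ∀ k ∈ K, k * x * k⁻¹ = x := fun k hk => by
      rw [h.comm_of_le hM hMB hk hxL.2, mul_inv_cancel_right]
    have hP' : ∃ q ∈ P, a * q * a ≠ q := by
      by_contra hcon
      push Not at hcon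
      have hPI : P = B ⊓ centralizer ({a} : Set S) :=
        eq_of_le_of_card_ge (fun p hp => h.memI.2 ⟨hPB hp, hcon p hp⟩) (by rw [hP, h.cardI])
      obtain ⟨t, ht, hte⟩ := hsurj v hv (hPI ▸ hvI) c (hPI ▸ hcI)
      have hk : t⁻¹ * a ∈ K := h.eight.act_eq hPB hP hv (hPI ▸ hvI)
        (fun p hp => by rw [hTP t ht p hp, h.ainv, hcon p hp]) (by rw [h.ainv, hvc, hte])
      refine hxB (h.fixK x hxL.2 ?_)
      calc a * x * a = a * x * a⁻¹ := by rw [h.ainv]
        _ = t * ((t⁻¹ * a) * x * (t⁻¹ * a)⁻¹) * t⁻¹ := by group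
        _ = x := by rw [hcommK _ hk, hTx t ht]
    obtain ⟨q, hq, hqne⟩ := hP'
    have haq : a * q * a = q * c := (hmove q (hPB hq)).resolve_left hqne
    have hcP : c ∈ P := by
      have h1 := hPn.conj_mem q hq a
      rw [h.ainv, haq] at h1
      simpa using P.mul_mem (P.inv_mem hq) h1
    obtain ⟨y, hy0⟩ : ∃ y, y = x⁻¹ * (a * x * a) := ⟨_, rfl⟩
    have hyB : y ∈ B := hy0 ▸ hMB (hM.phi x hxL.2)
    -- `T` fixes `y`
    have hTy : ∀ t ∈ T, t * y * t⁻¹ = y := by
      intro t ht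
      obtain ⟨z, hz, hzP⟩ : ∃ z ∈ B, z ∉ P := by
        by_contra hcon
        push Not at hcon
        have := card_le_of_le (show B ≤ P from hcon)
        rw [h.eight.card, hP] at this
        omega
      obtain ⟨g, hg0⟩ : ∃ g, g = a * t * a := ⟨_, rfl⟩
      have hgP : ∀ p ∈ P, g * p * g⁻¹ = p := fun p hp => by
        have hp' : a * p * a ∈ P := by
          have := hPn.conj_mem p hp a
          rwa [h.ainv] at this
        rw [hg0, show a * t * a * p * (a * t * a)⁻¹ = a * (t * (a * p * a⁻¹) * t⁻¹) * a⁻¹ by group,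
          h.ainv, hTP t ht _ hp', h.conj_conj]
      have hzg : z * (g * z * g⁻¹) ∈ P := (mem_or_mem_of_relIndex_two hP2 hz hzP
        (h.eight.conj_mem g hz)).resolve_left (by
          have := hPn
          exact EightNormal.conj_not_mem hzP)
      obtain ⟨t', ht', hte⟩ := hsurj z hz hzP _ hzg
      rw [← mul_assoc, h.eight.sq z hz, one_mul] at hte
      have hk : t'⁻¹ * g ∈ K := h.eight.act_eq hPB hP hz hzP
        (fun p hp => by rw [hgP p hp, hTP t' ht' p hp]) hte.symm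
      have hgx : g * x * g⁻¹ = x := by
        calc g * x * g⁻¹ = t' * ((t'⁻¹ * g) * x * (t'⁻¹ * g)⁻¹) * t'⁻¹ := by group
          _ = x := by rw [hcommK _ hk, hTx t' ht']
      have h2 : t * (a * x * a) * t⁻¹ = a * x * a := by
        have h3 : a * (g * x * g⁻¹) * a = t * (a * x * a) * t⁻¹ := by
          rw [hg0, mul_inv_rev, mul_inv_rev, h.ainv]
          calc a * (a * t * a * x * (a * (t⁻¹ * a))) * a
              = (a * a) * t * (a * x * a) * t⁻¹ * (a * a) := by group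
            _ = _ := by rw [h.asq]; group
        rw [← h3, hgx]
      rw [hy0, show t * (x⁻¹ * (a * x * a)) * t⁻¹ = (t * x * t⁻¹)⁻¹ * (t * (a * x * a) * t⁻¹) by group,
        hTx t ht, h2]
    have hyP : y ∈ P := by
      by_contra hyP
      have h2 := card_map_le_of_values (QuotientGroup.mk' K) T (fun g => g * y * g⁻¹)
        ({y} : Finset S) (fun g hg => by simpa using hTy g hg)
        (fun y₁ hy₁ y₂ hy₂ e => h.eight.mk_eq hPB hP hyB hyP
          (fun r hr => by rw [hTP y₁ hy₁ r hr, hTP y₂ hy₂ r hr]) e)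
      rw [Finset.card_singleton] at h2
      omega
    have hay : a * y * a = y := hy0 ▸ h.phi_mem (hy0 ▸ hyB)
    have hq1 : q ≠ 1 := fun e => hqne (by rw [e, mul_one, h.asq])
    have hcq : c ≠ q := fun e => hqne (by rw [← e, hac])
    rcases mem_four hP hcP hq hc1 hq1 hcq (h.eight.sq c hc) hyP with e | e | e | e
    · exact hxB (h.mem_of_phi hv hvc hxL.2 (Or.inl (hy0 ▸ e)))
    · exact hxB (h.mem_of_phi hv hvc hxL.2 (Or.inr (hy0 ▸ e)))
    · exact hqne (e ▸ hay)
    · rw [e, h.conj_mul, hac] at hay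
      exact hqne (mul_left_cancel hay)

end Inv

end Cfsg.Agent.Lib.HaradaRank
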