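import Cfsg.Agent.Lib.HaradaRank.Bound

/-!
# An involution with small fixed point group on `C_S(B)`

`K = C_S(B)`, `I = C_B(a)`. The quotient `K / B` has a cyclic normal subgroup `M / B` of index at
most two inverted by `a`.
-/

set_option autoImplicit false

namespace Cfsg.Agent.Lib.HaradaRank

open Subgroup

variable {S : Type*} [Group S]

/-- The standing hypothesis on the involution. -/
structure Inv (B : Subgroup S) (a : S) : Prop where
  eight : EightNormal B
  asq : a * a = 1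
  cardI : Nat.card (B ⊓ centralizer ({a} : Set S) : Subgroup S) = 4
  fixK : ∀ k ∈ centralizer (B : Set S), a * k * a = k → k ∈ B
  fixX : ∀ g : S, a * g * a = g → (∀ b ∈ B, a * b * a = b → g * b * g⁻¹ = b) →
    g ∈ centralizer (B : Set S) ∨ a * g ∈ centralizer (B : Set S)

namespace Inv

variable {B : Subgroup S} {a : S}

theorem ainv (h : Inv B a) : a⁻¹ = a := inv_eq_of_mul_eq_one_right h.asq

theorem conj_conj (h : Inv B a) (x : S) : a * (a * x * a) * a = x := by
  simp only [← mul_assoc, h.asq, one_mul]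
  rw [mul_assoc, h.asq, mul_one]

theorem conj_mul (h : Inv B a) (x y : S) : a * (x * y) * a = (a * x * a) * (a * y * a) := by
  calc a * (x * y) * a = a * x * 1 * y * a := by group
    _ = a * x * (a * a) * y * a := by rw [h.asq]
    _ = _ := by group

theorem conj_inv (h : Inv B a) (x : S) : a * x⁻¹ * a = (a * x * a)⁻¹ := by
  rw [mul_inv_rev, mul_inv_rev, h.ainv, ← mul_assoc]

theorem conjB (h : Inv B a) {b : S} (hb : b ∈ B) : a * b * a ∈ B := by
  have := h.eight.conj_mem a hb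
  rwa [h.ainv] at this

theorem conjK (h : Inv B a) {k : S} (hk : k ∈ centralizer (B : Set S)) :
    a * k * a ∈ centralizer (B : Set S) := by
  have := h.eight.centralizer_normal.conj_mem k hk a
  rwa [h.ainv] at this

theorem memI (h : Inv B a) {x : S} :
    x ∈ B ⊓ centralizer ({a} : Set S) ↔ x ∈ B ∧ a * x * a = x := by
  rw [mem_inf, Subgroup.mem_centralizer_singleton_iff]
  refine and_congr_right fun _ => ⟨fun e => ?_, fun e => ?_⟩
  · rw [← e, mul_assoc, h.asq, mul_one]
  · calc x * a = a * x * a * a := by rw [e]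
      _ = a * x := by rw [mul_assoc, h.asq, mul_one]

theorem cardI_rel [Finite S] (h : Inv B a) :
    (B ⊓ centralizer ({a} : Set S)).relIndex B = 2 :=
  relIndex_eq_two_of_card inf_le_left (by rw [h.cardI, h.eight.card])

/-- A moved element `v` and the centre `c` of the transvection. -/
theorem exists_vc [Finite S] (h : Inv B a) :
    ∃ v c : S, v ∈ B ∧ a * v * a ≠ v ∧ c ∈ B ∧ a * c * a = c ∧ c ≠ 1 ∧ a * v * a = v * c ∧
      ∀ b ∈ B, a * b * a = b ∨ a * b * a = b * c := by
  obtain ⟨v, hv, hvI⟩ : ∃ v ∈ B, v ∉ B ⊓ centralizer ({a} : Set S) := by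
    by_contra hcon
    push Not at hcon
    have := card_le_of_le (show B ≤ B ⊓ centralizer ({a} : Set S) from hcon)
    rw [h.cardI, h.eight.card] at this
    omega
  have hvne : a * v * a ≠ v := fun e => hvI (h.memI.2 ⟨hv, e⟩)
  have hc : v * (a * v * a) ∈ B := mul_mem hv (h.conjB hv)
  refine ⟨v, v * (a * v * a), hv, hvne, hc, ?_, ?_, ?_, fun b hb => ?_⟩
  · rw [h.conj_mul, h.conj_conj]
    exact h.eight.comm _ (h.conjB hv) _ hv
  · intro e
    exact hvne (mul_left_cancel (e.trans (h.eight.sq v hv).symm))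
  · rw [← mul_assoc, h.eight.sq v hv, one_mul]
  · rcases mem_or_mem_of_relIndex_two h.cardI_rel hv hvI hb with h1 | h1
    · exact Or.inl (h.memI.1 h1).2
    · refine Or.inr ?_
      obtain ⟨-, h2⟩ := h.memI.1 h1
      have e : a * v * a * (a * b * a) = v * b := (h.conj_mul v b).symm.trans h2
      calc a * b * a = (a * v * a)⁻¹ * (v * b) := eq_inv_mul_of_mul_eq e
        _ = (a * v * a) * (v * b) := by rw [h.eight.inv_eq (h.conjB hv)]
        _ = b * (v * (a * v * a)) := by
          rw [← mul_assoc, h.eight.comm _ (h.conjB hv) v hv]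
          exact h.eight.comm _ hc b hb

theorem not_mem_K [Finite S] (h : Inv B a) : a ∉ centralizer (B : Set S) := fun hm => by
  obtain ⟨v, c, hv, hvne, -⟩ := h.exists_vc
  have := EightNormal.mem_centralizer.1 hm v hv
  rw [h.ainv] at this
  exact hvne this

theorem phi_conj (h : Inv B a) (x : S) :
    a * (x⁻¹ * (a * x * a)) * a = (x⁻¹ * (a * x * a))⁻¹ := by
  rw [h.conj_mul, h.conj_conj, h.conj_inv]
  group

theorem phi_mem (h : Inv B a) {x : S} (hx : x⁻¹ * (a * x * a) ∈ B) :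
    a * (x⁻¹ * (a * x * a)) * a = x⁻¹ * (a * x * a) := by
  rw [h.phi_conj, h.eight.inv_eq hx]

theorem commBK (h : Inv B a) {b k : S} (hb : b ∈ B) (hk : k ∈ centralizer (B : Set S)) :
    b * k = k * b := hk b hb

theorem phi_mul (h : Inv B a) {x y : S} (hx : x ∈ centralizer (B : Set S))
    (hy : y⁻¹ * (a * y * a) ∈ B) :
    (y * x)⁻¹ * (a * (y * x) * a) = (y⁻¹ * (a * y * a)) * (x⁻¹ * (a * x * a)) := by
  rw [h.conj_mul, mul_inv_rev]
  calc x⁻¹ * y⁻¹ * ((a * y * a) * (a * x * a))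
      = x⁻¹ * (y⁻¹ * (a * y * a)) * (a * x * a) := by group
    _ = (y⁻¹ * (a * y * a)) * x⁻¹ * (a * x * a) := by
        rw [h.commBK hy (inv_mem hx)]
    _ = _ := by group

/-- `φ x ∈ {1, c}` only for `x ∈ B`. -/
theorem mem_of_phi (h : Inv B a) {v c x : S} (hv : v ∈ B) (hvc : a * v * a = v * c)
    (hx : x ∈ centralizer (B : Set S))
    (he : x⁻¹ * (a * x * a) = 1 ∨ x⁻¹ * (a * x * a) = c) : x ∈ B := by
  rcases he with e | e
  · exact h.fixK x hx (inv_mul_eq_one.1 e).symm
  · have hvx : v * x ∈ B := by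
      refine h.fixK _ (mul_mem (h.eight.le_centralizer hv) hx) ?_
      rw [h.conj_mul, hvc, show a * x * a = x * c from by rw [← e]; group]
      have hc : c ∈ B := by
        have : v⁻¹ * (a * v * a) ∈ B := mul_mem (inv_mem hv) (h.conjB hv)
        rwa [hvc, inv_mul_cancel_left] at this
      rw [← h.commBK hc hx, mul_assoc v c, ← mul_assoc c c, h.eight.sq c hc, one_mul]
    simpa using mul_mem (inv_mem hv) hvx

/-- `a` fixes at most one non-trivial element of `K / B`. -/
theorem fixed_unique [Finite S] (h : Inv B a) {x y : S} (hx : x ∈ centralizer (B : Set S))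
    (hy : y ∈ centralizer (B : Set S)) (hxB : x⁻¹ * (a * x * a) ∈ B)
    (hyB : y⁻¹ * (a * y * a) ∈ B) (hx' : x ∉ B) (hy' : y ∉ B) : y⁻¹ * x ∈ B := by
  obtain ⟨v, c, hv, -, hc, hac, hc1, hvc, -⟩ := h.exists_vc
  have hI : ∀ z ∈ centralizer (B : Set S), z⁻¹ * (a * z * a) ∈ B → z ∉ B →
      z⁻¹ * (a * z * a) ∈ B ⊓ centralizer ({a} : Set S) ∧ z⁻¹ * (a * z * a) ≠ 1 ∧
        z⁻¹ * (a * z * a) ≠ c := fun z hz hzB hz' =>
    ⟨h.memI.2 ⟨hzB, h.phi_mem hzB⟩, fun e => hz' (h.mem_of_phi hv hvc hz (Or.inl e)),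
      fun e => hz' (h.mem_of_phi hv hvc hz (Or.inr e))⟩
  have key : ∀ z ∈ centralizer (B : Set S), z⁻¹ * (a * z * a) ∈ B → z ∉ B → y * z ∈ B := by
    intro z hz hzB hz'
    obtain ⟨hyI, hy1, hyc⟩ := hI y hy hyB hy'
    obtain ⟨hzI, hz1, hzc⟩ := hI z hz hzB hz'
    refine h.mem_of_phi hv hvc (mul_mem hy hz) ?_
    rw [h.phi_mul hz hyB]
    rcases mem_four h.cardI (h.memI.2 ⟨hc, hac⟩) hyI hc1 hy1 (Ne.symm hyc) (h.eight.sq c hc) hzI
      with e | e | e | e
    · exact absurd e hz1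
    · exact absurd e hzc
    · rw [e]; exact Or.inl (h.eight.sq _ hyB)
    · rw [e, h.eight.comm c hc _ hyB, ← mul_assoc, h.eight.sq _ hyB, one_mul]
      exact Or.inr rfl
  have h1 := key x hx hxB hx'
  have h2 := key y hy hyB hy'
  have : (y * y)⁻¹ * (y * x) = y⁻¹ * x := by group
  exact this ▸ mul_mem (inv_mem h2) h1

end Inv

end Cfsg.Agent.Lib.HaradaRank
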