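import Cfsg.Agent.Lib.HaradaRank.Involution

/-!
# The subgroup `M` between `B` and `K`
-/

set_option autoImplicit false

namespace Cfsg.Agent.Lib.HaradaRank

open Subgroup

variable {S : Type*} [Group S]

theorem mk_eq_one_iff {B : Subgroup S} [B.Normal] {x : S} :
    QuotientGroup.mk' B x = 1 ↔ x ∈ B := QuotientGroup.eq_one_iff x

theorem mk_eq_mk_iff {B : Subgroup S} [B.Normal] {x y : S} :
    QuotientGroup.mk' B x = QuotientGroup.mk' B y ↔ x⁻¹ * y ∈ B := QuotientGroup.eq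

theorem mul_mem_two {M K : Subgroup S} (h : M.relIndex K = 2) {x y : S} (hx : x ∈ K) (hy : y ∈ K)
    (hxM : x ∉ M) (hyM : y ∉ M) : x * y ∈ M :=
  (mem_or_mem_of_relIndex_two h hx hxM hy).resolve_left hyM

/-- In a cyclic group the elementary quotients have order at most two. -/
theorem relIndex_le_two_of_cyclic [Finite S] {W T : Subgroup S} (hT : IsCyclic T)
    (hsq : ∀ x ∈ T, x * x ∈ W) : W.relIndex T ≤ 2 := by
  obtain ⟨g, hg⟩ := hT.exists_generator
  by_cases hgW : (g : S) ∈ W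
  · have : T ≤ W := fun x hx => by
      obtain ⟨n, hn⟩ := mem_zpowers_iff.1 (hg ⟨x, hx⟩)
      have h2 := congrArg Subtype.val hn
      simp only [SubgroupClass.coe_zpow] at h2
      exact h2 ▸ zpow_mem hgW n
    rw [relIndex_eq_one.2 this]
    norm_num
  · refine le_of_eq (relIndex_eq_two_iff.2 ⟨g, g.2, fun x hx => ?_⟩)
    obtain ⟨n, hn⟩ := mem_zpowers_iff.1 (hg ⟨x, hx⟩)
    have h2 := congrArg Subtype.val hn
    simp only [SubgroupClass.coe_zpow] at h2
    have hgg : (g : S) * g ∈ W := hsq g g.2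
    obtain ⟨m, rfl | rfl⟩ := Int.even_or_odd' n
    · have hxW : x ∈ W := by
        rw [← h2, zpow_mul, zpow_two]
        exact zpow_mem hgg m
      exact Or.inr ⟨hxW, fun h' => hgW (by simpa using mul_mem (inv_mem hxW) h')⟩
    · have hxW : x * g ∈ W := by
        rw [← h2, zpow_add, zpow_mul, zpow_two, zpow_one, mul_assoc]
        exact mul_mem (zpow_mem hgg m) hgg
      exact Or.inl ⟨hxW, fun h' => hgW (by simpa using mul_mem (inv_mem h') hxW)⟩

/-- Involutions of a cyclic subgroup coincide. -/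
theorem invol_eq [Finite S] {T : Subgroup S} (hT : IsCyclic T) {p q : S} (hp : p ∈ T) (hq : q ∈ T)
    (hp2 : p * p = 1) (hq2 : q * q = 1) (hp1 : p ≠ 1) (hq1 : q ≠ 1) : p = q := by
  classical
  have := hT
  have : Fintype T := Fintype.ofFinite T
  have hcard := IsCyclic.card_pow_eq_one_le (α := T) (n := 2) (by norm_num)
  by_contra hne
  have h3 : ({1, ⟨p, hp⟩, ⟨q, hq⟩} : Finset T) ⊆
      ({x : T | x ^ 2 = 1} : Finset T) := by
    intro x hx
    simp only [Finset.mem_insert, Finset.mem_singleton] at hx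
    rw [Finset.mem_filter]
    refine ⟨Finset.mem_univ _, ?_⟩
    rcases hx with rfl | rfl | rfl
    · simp
    · exact Subtype.ext (by simpa [sq] using hp2)
    · exact Subtype.ext (by simpa [sq] using hq2)
  have := (Finset.card_le_card h3).trans hcard
  rw [Finset.card_insert_of_notMem (by simp [Subtype.ext_iff, Ne.symm hp1, Ne.symm hq1]),
    Finset.card_pair (fun e => hne (Subtype.ext_iff.1 e))] at this
  omega

/-- An odd power of an element of a `2`-group generates the same subgroup. -/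
theorem mem_zpowers_odd_zpow {T : Subgroup S} (hT2 : IsPGroup 2 T) {g : S} (hgT : g ∈ T) (m : ℤ) :
    g ∈ zpowers (g ^ (2 * m + 1)) := by
  have := Fact.mk Nat.prime_two
  obtain ⟨e, he⟩ := IsPGroup.iff_orderOf.1 hT2 ⟨g, hgT⟩
  rw [← Subgroup.orderOf_coe] at he
  obtain ⟨r, s, hrs⟩ : IsCoprime (2 * m + 1) ((2 : ℤ) ^ e) :=
    IsCoprime.pow_right ⟨1, -m, by ring⟩
  have hg1 : g ^ ((2 : ℤ) ^ e) = 1 := by
    have : g ^ (2 ^ e : ℕ) = 1 := he ▸ pow_orderOf_eq_one g
    exact_mod_cast this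
  refine mem_zpowers_iff.2 ⟨r, ?_⟩
  rw [← zpow_mul, mul_comm (2 * m + 1) r]
  calc g ^ (r * (2 * m + 1)) = g ^ (r * (2 * m + 1) + (2 : ℤ) ^ e * s) := by
        rw [zpow_add, zpow_mul _ ((2 : ℤ) ^ e), hg1, one_zpow, mul_one]
    _ = g := by rw [mul_comm _ s, hrs, zpow_one]

/-- An element outside an index two subgroup generates a cyclic `2`-group. -/
theorem zpowers_eq_of_not_mem [Finite S] {M T : Subgroup S} (hT2 : IsPGroup 2 T)
    (hT : IsCyclic T) (h : M.relIndex T = 2) {q : S} (hq : q ∈ T) (hqM : q ∉ M) :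
    T ≤ zpowers q := by
  have := Fact.mk Nat.prime_two
  obtain ⟨g, hg⟩ := hT.exists_generator
  obtain ⟨n, hn⟩ := mem_zpowers_iff.1 (hg ⟨q, hq⟩)
  have h2 := congrArg Subtype.val hn
  simp only [SubgroupClass.coe_zpow] at h2
  have hgg : (g : S) * g ∈ M := by
    by_cases hgM : (g : S) ∈ M
    · exact mul_mem hgM hgM
    · exact mul_mem_two h g.2 g.2 hgM hgM
  obtain ⟨m, rfl | rfl⟩ := Int.even_or_odd' n
  · exact absurd (h2 ▸ by rw [zpow_mul, zpow_two]; exact zpow_mem hgg m) hqM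
  · have hmem : (g : S) ∈ zpowers q := h2 ▸ mem_zpowers_odd_zpow hT2 g.2 m
    intro x hx
    obtain ⟨n', hn'⟩ := mem_zpowers_iff.1 (hg ⟨x, hx⟩)
    have h3 := congrArg Subtype.val hn'
    simp only [SubgroupClass.coe_zpow] at h3
    exact h3 ▸ zpow_mem hmem n'

/-- The hypothesis on `M`. -/
structure Mid (B : Subgroup S) (a : S) (M : Subgroup S) : Prop where
  normal : M.Normal
  le : B ≤ M
  leK : M ≤ centralizer (B : Set S)
  index : M.relIndex (centralizer (B : Set S)) = 2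
  phi : ∀ x ∈ centralizer (B : Set S), x⁻¹ * (a * x * a) ∈ M

namespace Inv

variable {B : Subgroup S} {a : S}

theorem exists_mid [Finite S] [B.Normal] (h : Inv B a) (hS : IsPGroup 2 S)
    (hK : ¬ centralizer (B : Set S) ≤ B) : ∃ M, Mid B a M := by
  have := Fact.mk Nat.prime_two
  set K := centralizer (B : Set S)
  set π := QuotientGroup.mk' B
  have hKn : K.Normal := h.eight.centralizer_normal
  have hne : K.map π ≠ ⊥ := by
    rw [Ne, Subgroup.map_eq_bot_iff, QuotientGroup.ker_mk']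
    exact hK
  have : (K.map π).Normal := hKn.map π (QuotientGroup.mk'_surjective B)
  obtain ⟨M₀, hM₀n, hM₀, hc⟩ := PGroups.exists_normal_lt_index_prime (hS.to_quotient B) _ hne
  have hBM : B ≤ M₀.comap π := fun x hx => by
    rw [mem_comap, mk_eq_one_iff.2 hx]
    exact one_mem _
  have hMK : M₀.comap π ≤ K := fun x hx => by
    obtain ⟨k, hk, hkx⟩ := hM₀ hx
    have := mk_eq_mk_iff.1 hkx
    simpa using mul_mem hk (h.eight.le_centralizer this)
  have hidx : (M₀.comap π).relIndex K = 2 := by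
    refine relIndex_eq_two_of_card hMK ?_
    rw [card_eq_map_mul π (M₀.comap π), card_eq_map_mul π K,
      map_comap_eq_self_of_surjective (QuotientGroup.mk'_surjective B), QuotientGroup.ker_mk',
      inf_eq_right.2 hBM, inf_eq_right.2 h.eight.le_centralizer, ← hc]
    ring
  refine ⟨M₀.comap π, hM₀n.comap π, hBM, hMK, hidx, fun x hx => ?_⟩
  have hn := hM₀n.comap π
  by_cases hxM : x ∈ M₀.comap π
  · refine mul_mem (inv_mem hxM) ?_
    have := hn.conj_mem x hxM a
    rwa [h.ainv] at this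
  · refine mul_mem_two hidx (inv_mem hx) (h.conjK hx) (fun e => hxM (by simpa using inv_mem e))
      fun e => hxM ?_
    have := hn.conj_mem _ e a
    rwa [h.ainv, h.conj_conj] at this

theorem mk_conj [B.Normal] (h : Inv B a) (x : S) :
    QuotientGroup.mk' B (a * x * a) =
      QuotientGroup.mk' B a * QuotientGroup.mk' B x * QuotientGroup.mk' B a := by
  have := h.asq
  rw [map_mul, map_mul]

/-- Every element of `M` is `φ x` modulo `B`. -/
theorem exists_phi [Finite S] [B.Normal] (h : Inv B a) {M : Subgroup S} (hM : Mid B a M) :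
    (∀ f ∈ M, ∃ x ∈ centralizer (B : Set S), (x⁻¹ * (a * x * a))⁻¹ * f ∈ B) ∧
      ∃ x ∈ centralizer (B : Set S), x ∉ B ∧ x⁻¹ * (a * x * a) ∈ B := by
  classical
  set K := centralizer (B : Set S)
  set π := QuotientGroup.mk' B
  let Kb := K.map π
  let Mb := M.map π
  have hπa : π a * π a = 1 := by rw [← map_mul, h.asq, map_one]
  have hval : ∀ q : Kb, (q : S ⧸ B)⁻¹ * (π a * q * π a) ∈ Mb := fun q => by
    obtain ⟨x, hx, hxq⟩ := q.2
    rw [← hxq, ← h.mk_conj, ← map_inv, ← map_mul]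
    exact mem_map_of_mem π (hM.phi x hx)
  let ψ : Kb → Mb := fun q => ⟨_, hval q⟩
  -- two elements with equal values differ by a fixed element
  have hfix : ∀ q r : Kb, ψ q = ψ r → π a * ((r : S ⧸ B) * (q : S ⧸ B)⁻¹) * π a = r * (q : S ⧸ B)⁻¹ := by
    intro q r e
    have e' : (q : S ⧸ B)⁻¹ * (π a * q * π a) = (r : S ⧸ B)⁻¹ * (π a * r * π a) :=
      Subtype.ext_iff.1 e
    have e1 : (r : S ⧸ B) * (q : S ⧸ B)⁻¹ = (π a * r * π a) * (π a * q * π a)⁻¹ := by
      calc (r : S ⧸ B) * (q : S ⧸ B)⁻¹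
          = r * ((q : S ⧸ B)⁻¹ * (π a * q * π a)) * (π a * q * π a)⁻¹ := by group
        _ = r * ((r : S ⧸ B)⁻¹ * (π a * r * π a)) * (π a * q * π a)⁻¹ := by rw [e']
        _ = _ := by group
    conv_rhs => rw [e1]
    rw [mul_inv_rev, mul_inv_rev, inv_eq_of_mul_eq_one_right hπa]
    calc π a * ((r : S ⧸ B) * (q : S ⧸ B)⁻¹) * π a
        = π a * r * 1 * (q : S ⧸ B)⁻¹ * π a := by group
      _ = π a * r * (π a * π a) * (q : S ⧸ B)⁻¹ * π a := by rw [hπa]
      _ = _ := by group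
  have hlift : ∀ d ∈ Kb, π a * d * π a = d → ∃ x ∈ K, π x = d ∧ x⁻¹ * (a * x * a) ∈ B := by
    rintro _ ⟨x, hx, rfl⟩ hd
    refine ⟨x, hx, rfl, ?_⟩
    rw [← h.mk_conj] at hd
    exact mk_eq_mk_iff.1 hd.symm
  have hcard : Nat.card Kb = 2 * Nat.card Mb := by
    have h1 := card_eq_map_mul π K
    have h2 := card_eq_map_mul π M
    rw [QuotientGroup.ker_mk', inf_eq_right.2 h.eight.le_centralizer] at h1
    rw [QuotientGroup.ker_mk', inf_eq_right.2 hM.le] at h2
    have h3 := card_mul_index (M.subgroupOf K)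
    rw [Nat.card_congr (subgroupOfEquivOfLe hM.leK).toEquiv] at h3
    have h4 : (M.subgroupOf K).index = 2 := hM.index
    rw [h4, h1, h2] at h3
    exact Nat.eq_of_mul_eq_mul_right (Nat.card_pos (α := B)) (by linarith [h3])
  have : Fintype Kb := Fintype.ofFinite _
  have : Fintype Mb := Fintype.ofFinite _
  rw [Nat.card_eq_fintype_card, Nat.card_eq_fintype_card] at hcard
  have hfib : ∀ m ∈ Finset.univ.image ψ, (Finset.univ.filter fun q => ψ q = m).card ≤ 2 := by
    intro m _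
    by_contra hlt
    push Not at hlt
    obtain ⟨p, q, r, hp, hq, hr, hpq, hpr, hqr⟩ := Finset.two_lt_card_iff.1 hlt
    simp only [Finset.mem_filter, Finset.mem_univ, true_and] at hp hq hr
    obtain ⟨x, hx, hxe, hxB⟩ := hlift _ (mul_mem q.2 (inv_mem p.2)) (hfix p q (hp.trans hq.symm))
    obtain ⟨y, hy, hye, hyB⟩ := hlift _ (mul_mem r.2 (inv_mem p.2)) (hfix p r (hp.trans hr.symm))
    have hx' : x ∉ B := fun e => hpq (Subtype.ext
      (by rw [← mk_eq_one_iff, hxe, mul_inv_eq_one] at e; exact e.symm))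
    have hy' : y ∉ B := fun e => hpr (Subtype.ext
      (by rw [← mk_eq_one_iff, hye, mul_inv_eq_one] at e; exact e.symm))
    have := mk_eq_mk_iff.2 (h.fixed_unique hx hy hxB hyB hx' hy')
    rw [hxe, hye] at this
    exact hqr (Subtype.ext (mul_right_cancel this)).symm
  have h1 := Finset.card_le_mul_card_image Finset.univ 2 hfib
  rw [Finset.card_univ] at h1
  have himg : Finset.univ.image ψ = Finset.univ :=
    Finset.eq_univ_of_card _ (by
      have := Finset.card_le_univ (Finset.univ.image ψ)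
      omega)
  refine ⟨fun f hf => ?_, ?_⟩
  · have hm : (⟨π f, mem_map_of_mem π hf⟩ : Mb) ∈ Finset.univ.image ψ := himg ▸ Finset.mem_univ _
    obtain ⟨q, -, hq⟩ := Finset.mem_image.1 hm
    obtain ⟨x, hx, hxq⟩ := q.2
    refine ⟨x, hx, mk_eq_mk_iff.1 ?_⟩
    have e : (q : S ⧸ B)⁻¹ * (π a * q * π a) = π f := Subtype.ext_iff.1 hq
    rw [map_mul, map_inv, h.mk_conj, hxq]
    exact e
  · by_contra hcon
    push Not at hcon
    have hinj : Function.Injective ψ := by
      intro q r e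
      obtain ⟨x, hx, hxe, hxB⟩ := hlift _ (mul_mem r.2 (inv_mem q.2)) (hfix q r e)
      have : x ∈ B := by_contra fun h' => hcon x hx h' hxB
      rw [← mk_eq_one_iff, hxe, mul_inv_eq_one] at this
      exact Subtype.ext this.symm
    have := Fintype.card_le_of_injective ψ hinj
    have hpos : 0 < Fintype.card Mb := Fintype.card_pos
    omega

theorem inverted [Finite S] [B.Normal] (h : Inv B a) {M : Subgroup S} (hM : Mid B a M) {f : S}
    (hf : f ∈ M) : QuotientGroup.mk' B (a * f * a) = (QuotientGroup.mk' B f)⁻¹ := by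
  obtain ⟨x, -, hb⟩ := (h.exists_phi hM).1 f hf
  have e : QuotientGroup.mk' B (x⁻¹ * (a * x * a)) = QuotientGroup.mk' B f := mk_eq_mk_iff.2 hb
  rw [h.mk_conj, ← e, ← h.mk_conj, h.phi_conj, map_inv]

theorem comm_mid [Finite S] [B.Normal] (h : Inv B a) {M : Subgroup S} (hM : Mid B a M) {f g : S}
    (hf : f ∈ M) (hg : g ∈ M) :
    QuotientGroup.mk' B f * QuotientGroup.mk' B g = QuotientGroup.mk' B g * QuotientGroup.mk' B f := by
  have e := h.inverted hM (mul_mem hf hg)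
  rw [h.conj_mul, map_mul, h.inverted hM hf, h.inverted hM hg, map_mul, ← mul_inv_rev] at e
  exact (inv_injective e).symm

theorem fixed_mid [Finite S] [B.Normal] (h : Inv B a) {M : Subgroup S} (hM : Mid B a M) {y : S}
    (hy : y ∈ M) (hy2 : y * y ∈ B) : y⁻¹ * (a * y * a) ∈ B := by
  refine mk_eq_mk_iff.1 ?_
  rw [h.inverted hM hy]
  exact (inv_eq_of_mul_eq_one_right (by rw [← map_mul]; exact mk_eq_one_iff.2 hy2)).symm

/-- `M / B` is cyclic. -/
theorem cyclic_mid [Finite S] [B.Normal] (h : Inv B a) (hS : IsPGroup 2 S) {M : Subgroup S}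
    (hM : Mid B a M) : IsCyclic (M.map (QuotientGroup.mk' B)) := by
  classical
  have := Fact.mk Nat.prime_two
  set π := QuotientGroup.mk' B
  refine PGroups.isCyclic_of_comm_omega (p := 2) ?_ ((hS.to_subgroup M).map π) ?_
  · refine ⟨⟨fun p q => ?_⟩⟩
    obtain ⟨⟨_, f, hf, rfl⟩, ⟨_, g, hg, rfl⟩⟩ := p, q
    exact Subtype.ext (h.comm_mid hM hf hg)
  · by_cases hne : ∃ q ∈ M.map π, q ^ 2 = 1 ∧ q ≠ 1
    · obtain ⟨_, ⟨y, hy, rfl⟩, hy2, hy1⟩ := hne
      have hle : Cfsg.omegaOne 2 (M.map π) ≤ zpowers (π y) := by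
        refine (closure_le _).2 fun q hq => ?_
        obtain ⟨⟨z, hz, rfl⟩, hz2⟩ := hq
        by_cases hzB : z ∈ B
        · rw [mk_eq_one_iff.2 hzB]
          exact one_mem _
        have hsq : ∀ u : S, π u ^ 2 = 1 → u * u ∈ B := fun u hu => by
          rw [sq, ← map_mul] at hu
          exact mk_eq_one_iff.1 hu
        have := h.fixed_unique (hM.leK hy) (hM.leK hz) (h.fixed_mid hM hy (hsq y hy2))
          (h.fixed_mid hM hz (hsq z hz2)) (fun e => hy1 (mk_eq_one_iff.2 e)) hzB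
        rw [mk_eq_mk_iff.2 this]
        exact mem_zpowers _
      refine (card_le_of_le hle).trans ?_
      rw [Nat.card_zpowers]
      exact orderOf_le_of_pow_eq_one (by norm_num) hy2
    · push Not at hne
      have hle : Cfsg.omegaOne 2 (M.map π) ≤ ⊥ := (closure_le _).2 fun q hq => hne q hq.1 hq.2
      rw [le_bot_iff.1 hle, Subgroup.card_bot]
      norm_num

/-- The involutions in `a M` are conjugate to `a` under `K`. -/
theorem exists_conj [Finite S] [B.Normal] (h : Inv B a) {M : Subgroup S}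
    (hM : Mid B a M) {f : S} (hf : f ∈ M) (hinv : a * f * a = f⁻¹) :
    ∃ k ∈ centralizer (B : Set S), k * a * k⁻¹ = a * f := by
  obtain ⟨hsurj, x₁, hx₁, hx₁B, hx₁φ⟩ := h.exists_phi hM
  obtain ⟨x, hx, hb⟩ := hsurj f⁻¹ (inv_mem hf)
  obtain ⟨v, c, hv, hvne, hc, hac, hc1, hvc, -⟩ := h.exists_vc
  set b := (x⁻¹ * (a * x * a))⁻¹ * f⁻¹ with hbdef
  have hb' : a * b * a = b := by
    have e1 : f⁻¹ = (x⁻¹ * (a * x * a)) * b := by rw [hbdef]; group
    have e2 : a * f⁻¹ * a = f := by rw [h.conj_inv, hinv, inv_inv]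
    rw [e1, h.conj_mul, h.phi_conj] at e2
    have e3 : f = b⁻¹ * (x⁻¹ * (a * x * a))⁻¹ := by
      rw [← inv_inv f, e1, mul_inv_rev]
    rw [e3, h.eight.inv_eq hb] at e2
    have hx' : (x⁻¹ * (a * x * a))⁻¹ ∈ centralizer (B : Set S) :=
      inv_mem (mul_mem (inv_mem hx) (h.conjK hx))
    rw [h.commBK hb hx'] at e2
    exact mul_left_cancel e2
  -- `b = φ y` for some `y`
  obtain ⟨y, hy, hyφ⟩ : ∃ y ∈ centralizer (B : Set S), y⁻¹ * (a * y * a) = b := by
    have hφv : v⁻¹ * (a * v * a) = c := by rw [hvc, inv_mul_cancel_left]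
    have hne1 : x₁⁻¹ * (a * x₁ * a) ≠ 1 := fun e => hx₁B (h.mem_of_phi hv hvc hx₁ (Or.inl e))
    have hnec : x₁⁻¹ * (a * x₁ * a) ≠ c := fun e => hx₁B (h.mem_of_phi hv hvc hx₁ (Or.inr e))
    rcases mem_four h.cardI (h.memI.2 ⟨hc, hac⟩) (h.memI.2 ⟨hx₁φ, h.phi_mem hx₁φ⟩) hc1 hne1
      (Ne.symm hnec) (h.eight.sq c hc) (h.memI.2 ⟨hb, hb'⟩) with e | e | e | e
    · exact ⟨1, one_mem _, by rw [e, inv_one, one_mul, mul_one, h.asq]⟩
    · exact ⟨v, h.eight.le_centralizer hv, hφv.trans e.symm⟩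
    · exact ⟨x₁, hx₁, e.symm⟩
    · refine ⟨v * x₁, mul_mem (h.eight.le_centralizer hv) hx₁, ?_⟩
      rw [h.phi_mul hx₁ (hφv.symm ▸ hc), hφv, e]
  refine ⟨(y * x)⁻¹, inv_mem (mul_mem hy hx), ?_⟩
  have e : (y * x)⁻¹ * (a * (y * x) * a) = f⁻¹ := by
    rw [h.phi_mul hx (hyφ.symm ▸ hb), hyφ,
      h.commBK hb (mul_mem (inv_mem hx) (h.conjK hx)), hbdef]
    group
  have e2 : f = (a * (y * x) * a)⁻¹ * (y * x) := by
    rw [← inv_inv f, ← e, mul_inv_rev, inv_inv]
  rw [inv_inv, e2, ← h.conj_inv]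
  simp only [← mul_assoc, h.asq, one_mul]

/-- The invariant `i` of a non-trivial `M / B`. -/
theorem exists_inv_sq [Finite S] [B.Normal] (h : Inv B a) (hS : IsPGroup 2 S) {M : Subgroup S}
    (hM : Mid B a M) (hMB : ¬ M ≤ B) {c v : S} (hv : v ∈ B) (hvc : a * v * a = v * c) :
    ∃ i, i ∈ B ∧ i ≠ 1 ∧ a * i * a = i ∧ i ≠ c ∧ (∀ g : S, g * i * g⁻¹ = i) ∧
      ∀ y ∈ M, y ∉ B → y * y ∈ B → y * y = i := by
  classical
  have := Fact.mk Nat.prime_two
  set π := QuotientGroup.mk' B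
  obtain ⟨hsurj, -⟩ := h.exists_phi hM
  obtain ⟨q, hqM, hq⟩ := PGroups.exists_orderOf_eq_prime_of_ne_bot (p := 2)
    ((hS.to_subgroup M).map π) (by rw [Ne, Subgroup.map_eq_bot_iff, QuotientGroup.ker_mk']; exact hMB)
  obtain ⟨y₀, hy₀, rfl⟩ := hqM
  have hy₀1 : π y₀ ≠ 1 := fun e => by rw [e, orderOf_one] at hq; norm_num at hq
  have hy₀2 : π y₀ * π y₀ = 1 := by rw [← sq, ← hq, pow_orderOf_eq_one]
  obtain ⟨x, hx, hxb⟩ := hsurj y₀ hy₀
  set w := x⁻¹ * (a * x * a) with hw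
  have hwM : w ∈ M := hM.phi x hx
  have hπw : π w = π y₀ := mk_eq_mk_iff.2 hxb
  have hwB : w ∉ B := fun e => hy₀1 (by rw [← hπw]; exact mk_eq_one_iff.2 e)
  have hw2 : w * w ∈ B := mk_eq_one_iff.1 (by
    change π (w * w) = 1
    rw [map_mul, hπw]; exact hy₀2)
  have hwinv : a * w * a = w⁻¹ := h.phi_conj x
  have key : ∀ y ∈ M, y ∉ B → y * y ∈ B → y * y = w * w := by
    intro y hy hyB hy2
    have h1 := h.fixed_unique (hM.leK hwM) (hM.leK hy) (h.fixed_mid hM hwM hw2)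
      (h.fixed_mid hM hy hy2) hwB hyB
    have h2 := h.eight.sq _ h1
    have h3 := h.commBK h1 (hM.leK hy)
    calc y * y = y * y * ((y⁻¹ * w) * (y⁻¹ * w)) := by rw [h2, mul_one]
      _ = y * (y * (y⁻¹ * w)) * (y⁻¹ * w) := by group
      _ = y * ((y⁻¹ * w) * y) * (y⁻¹ * w) := by rw [h3]
      _ = _ := by group
  refine ⟨w * w, hw2, ?_, ?_, ?_, fun g => ?_, key⟩
  · intro e
    refine hwB (h.fixK w (hM.leK hwM) ?_)
    rw [hwinv]
    exact inv_eq_of_mul_eq_one_right e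
  · rw [h.conj_mul, hwinv, ← mul_inv_rev]
    exact h.eight.inv_eq hw2
  · intro e
    have hwv : w * v ∈ B := by
      refine h.fixK _ (mul_mem (hM.leK hwM) (h.eight.le_centralizer hv)) ?_
      rw [h.conj_mul, hwinv, hvc, ← e, h.eight.comm v hv _ hw2]
      group
    exact hwB (by simpa using mul_mem hwv (inv_mem hv))
  · rw [show g * (w * w) * g⁻¹ = (g * w * g⁻¹) * (g * w * g⁻¹) by group]
    refine key _ (hM.normal.conj_mem w hwM g) (fun e => hwB ?_) ?_
    · simpa [mul_assoc] using h.eight.normal.conj_mem _ e g⁻¹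
    · rw [show (g * w * g⁻¹) * (g * w * g⁻¹) = g * (w * w) * g⁻¹ by group]
      exact h.eight.conj_mem g hw2

end Inv

end Cfsg.Agent.Lib.HaradaRank
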