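import Cfsg.Agent.Lib.HaradaRank.Middle

/-!
# Elements acting differently from `a` force `K / B` cyclic
-/

set_option autoImplicit false

namespace Cfsg.Agent.Lib.HaradaRank

open Subgroup

variable {S : Type*} [Group S] {B : Subgroup S} {a : S}

theorem map_index_two [B.Normal] {M K : Subgroup S} (hBM : B ≤ M) (hMK : M ≤ K)
    (h : M.relIndex K = 2) :
    (M.map (QuotientGroup.mk' B)).relIndex (K.map (QuotientGroup.mk' B)) = 2 := by
  rw [relIndex_map_map, QuotientGroup.ker_mk', sup_eq_left.2 hBM, sup_eq_left.2 (hBM.trans hMK), h]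

theorem isCyclic_le {T U : Subgroup S} (hU : IsCyclic U) (h : T ≤ U) : IsCyclic T :=
  isCyclic_of_injective (inclusion h) (inclusion_injective h)

namespace Inv

/-- An inverted element outside `M` generates `K / B`. -/
theorem cyclic_of_inverted [Finite S] [B.Normal] (h : Inv B a) (hS : IsPGroup 2 S) {M : Subgroup S}
    (hM : Mid B a M) {k : S} (hk : k ∈ centralizer (B : Set S)) (hkM : k ∉ M)
    (hinv : a * k * a = k⁻¹) :
    IsCyclic ((centralizer (B : Set S)).map (QuotientGroup.mk' B)) := by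
  classical
  have := Fact.mk Nat.prime_two
  set K := centralizer (B : Set S)
  set π := QuotientGroup.mk' B
  have hkk : k * k ∈ M := mul_mem_two hM.index hk hk hkM hkM
  have hMz : ∀ f ∈ M, π f ∈ zpowers (π k) := by
    by_cases hMB : M ≤ B
    · intro f hf
      rw [mk_eq_one_iff.2 (hMB hf)]
      exact one_mem _
    obtain ⟨⟨_, g₀, hg₀, rfl⟩, hgen⟩ := (h.cyclic_mid hS hM).exists_generator
    obtain ⟨n, hn⟩ := mem_zpowers_iff.1 (hgen ⟨π (k * k), mem_map_of_mem π hkk⟩)
    have hn' : π g₀ ^ n = π (k * k) := congrArg Subtype.val hn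
    obtain ⟨m, rfl | rfl⟩ := Int.even_or_odd' n
    · exfalso
      obtain ⟨f, hf, hfe⟩ : ∃ f ∈ M, π f = π g₀ ^ (-m) :=
        ⟨g₀ ^ (-m), zpow_mem hg₀ _, map_zpow π _ _⟩
      have hfix : (k * f)⁻¹ * (a * (k * f) * a) ∈ B := by
        refine mk_eq_mk_iff.1 ?_
        rw [h.conj_mul, hinv, map_mul, map_mul, map_inv, h.inverted hM hf]
        refine eq_inv_mul_of_mul_eq ?_ |>.trans rfl
        rw [eq_comm, inv_eq_iff_mul_eq_one]
        calc π f * (π k * (π k * π f)) = π f * (π (k * k) * π f) := by rw [map_mul, mul_assoc]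
          _ = π g₀ ^ (-m) * (π g₀ ^ (2 * m) * π g₀ ^ (-m)) := by rw [hfe, hn']
          _ = 1 := by rw [← zpow_add, ← zpow_add]; simp [show -m + (2 * m + -m) = 0 by ring]
      have hkfK : k * f ∈ K := mul_mem hk (hM.leK hf)
      have hkfB : k * f ∉ B := fun e => hkM (by simpa using mul_mem (hM.le e) (inv_mem hf))
      obtain ⟨q, hqM, hq⟩ := PGroups.exists_orderOf_eq_prime_of_ne_bot (p := 2)
        ((hS.to_subgroup M).map π)
        (by rw [Ne, Subgroup.map_eq_bot_iff, QuotientGroup.ker_mk']; exact hMB)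
      obtain ⟨y₀, hy₀, rfl⟩ := hqM
      have hy₀B : y₀ ∉ B := fun e => by
        rw [mk_eq_one_iff.2 e, orderOf_one] at hq
        norm_num at hq
      have hy₀2 : y₀ * y₀ ∈ B := mk_eq_one_iff.1 (by
        change π (y₀ * y₀) = 1
        rw [map_mul, ← sq, ← hq, pow_orderOf_eq_one])
      have h1 := h.fixed_unique (hM.leK hy₀) hkfK (h.fixed_mid hM hy₀ hy₀2) hfix hy₀B hkfB
      have h2 : k * f ∈ M := by
        have := mul_mem hy₀ (inv_mem (hM.le h1))
        simpa [mul_assoc] using this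
      exact hkM (by simpa using mul_mem h2 (inv_mem hf))
    · intro f hf
      obtain ⟨j, hj⟩ := mem_zpowers_iff.1 (hgen ⟨π f, mem_map_of_mem π hf⟩)
      have hj' : π g₀ ^ j = π f := congrArg Subtype.val hj
      have hg : π g₀ ∈ zpowers (π k) := by
        refine zpowers_le.2 ?_ (mem_zpowers_odd_zpow ((hS.to_subgroup M).map π)
          (mem_map_of_mem π hg₀) m)
        rw [hn', map_mul]
        exact mul_mem (mem_zpowers _) (mem_zpowers _)
      exact hj' ▸ zpow_mem hg j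
  have hle : K.map π ≤ zpowers (π k) := by
    rintro _ ⟨x, hx, rfl⟩
    rcases mem_or_mem_of_relIndex_two hM.index hk hkM hx with e | e
    · exact hMz x e
    · have := mul_mem (inv_mem (mem_zpowers (π k))) (hMz _ e)
      rwa [map_mul, inv_mul_cancel_left] at this
  exact isCyclic_le inferInstance hle

/-- Elements centralizing `C_B(a)` outside `K ⟨a⟩`. -/
theorem fixer [Finite S] [B.Normal] (h : Inv B a) (hS : IsPGroup 2 S) {M : Subgroup S}
    (hM : Mid B a M) {g : S} (hg : ∀ b ∈ B, a * b * a = b → g * b * g⁻¹ = b)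
    (hgK : g ∉ centralizer (B : Set S)) (hagK : a * g ∉ centralizer (B : Set S)) :
    a * (g * a * g⁻¹) ∈ centralizer (B : Set S) ∧ a * (g * a * g⁻¹) ∉ M ∧
      IsCyclic ((centralizer (B : Set S)).map (QuotientGroup.mk' B)) := by
  obtain ⟨v, c, hv, hvne, hc, hac, hc1, hvc, -⟩ := h.exists_vc
  have hvI : v ∉ B ⊓ centralizer ({a} : Set S) := fun e => hvne (h.memI.1 e).2
  have hgI : ∀ b ∈ B ⊓ centralizer ({a} : Set S), g * b * g⁻¹ = b := fun b hb =>
    hg b (h.memI.1 hb).1 (h.memI.1 hb).2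
  have hk : a * (g * a * g⁻¹) ∈ centralizer (B : Set S) := by
    have := h.eight.act_eq (P := B ⊓ centralizer ({a} : Set S)) inf_le_left h.cardI hv hvI
      (g := g * a * g⁻¹) (g' := a) ?_ ?_
    · rwa [h.ainv] at this
    · intro p hp
      have e : g⁻¹ * p * g = p := by
        conv_lhs => rw [← hgI p hp]
        group
      rw [h.ainv, (h.memI.1 hp).2,
        show (g * a * g⁻¹) * p * (g * a * g⁻¹)⁻¹ = g * (a * (g⁻¹ * p * g) * a⁻¹) * g⁻¹ by group,
        e, h.ainv, (h.memI.1 hp).2, hgI p hp]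
    · -- the value on `v`
      have hy : v * (g⁻¹ * v * g) ∈ B ⊓ centralizer ({a} : Set S) := by
        refine (mem_or_mem_of_relIndex_two h.cardI_rel hv hvI ?_).resolve_left fun e => hvI ?_
        · simpa using h.eight.conj_mem g⁻¹ hv
        · have := hgI _ e
          rw [show g * (g⁻¹ * v * g) * g⁻¹ = v by group] at this
          exact this ▸ e
      obtain ⟨y, hy0⟩ : ∃ y, y = v * (g⁻¹ * v * g) := ⟨_, rfl⟩
      rw [← hy0] at hy
      have ey : g⁻¹ * v * g = v * y := by rw [hy0, ← mul_assoc, h.eight.sq v hv, one_mul]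
      have egv : g * v * g⁻¹ = v * y := by
        have e2 : v = (g * v * g⁻¹) * y := by
          calc v = g * (g⁻¹ * v * g) * g⁻¹ := by group
            _ = g * (v * y) * g⁻¹ := by rw [ey]
            _ = (g * v * g⁻¹) * (g * y * g⁻¹) := by group
            _ = _ := by rw [hgI y hy]
        calc g * v * g⁻¹ = (g * v * g⁻¹) * y * y⁻¹ := by group
          _ = v * y := by rw [← e2, h.eight.inv_eq hy.1]
      rw [show (g * a * g⁻¹) * v * (g * a * g⁻¹)⁻¹ = g * (a * (g⁻¹ * v * g) * a⁻¹) * g⁻¹ by group,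
        ey, h.ainv, h.conj_mul, hvc, (h.memI.1 hy).2,
        show g * (v * c * y) * g⁻¹ = (g * v * g⁻¹) * (g * c * g⁻¹) * (g * y * g⁻¹) by group, egv,
        hgI c (h.memI.2 ⟨hc, hac⟩), hgI y hy, mul_assoc, mul_assoc, h.eight.comm c hc y hy.1,
        ← mul_assoc y y, h.eight.sq y hy.1, one_mul]
  have hinv : a * (a * (g * a * g⁻¹)) * a = (a * (g * a * g⁻¹))⁻¹ := by
    rw [← mul_assoc, h.asq, one_mul, mul_inv_rev, h.ainv]
    congr 1
    rw [mul_inv_rev, mul_inv_rev, inv_inv, h.ainv, mul_assoc]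
  have hkM : a * (g * a * g⁻¹) ∉ M := by
    intro hmem
    obtain ⟨k₁, hk₁, hk₁e⟩ := h.exists_conj hM hmem hinv
    rw [← mul_assoc a a, h.asq, one_mul] at hk₁e
    have hcomm : a * (k₁⁻¹ * g) * a = k₁⁻¹ * g := by
      calc a * (k₁⁻¹ * g) * a = k₁⁻¹ * (k₁ * a * k₁⁻¹) * g * a := by group
        _ = k₁⁻¹ * (g * a * g⁻¹) * g * a := by rw [hk₁e]
        _ = k₁⁻¹ * g * (a * a) := by group
        _ = _ := by rw [h.asq, mul_one]
    rcases h.fixX _ hcomm (fun b hb hab => by
      rw [show k₁⁻¹ * g * b * (k₁⁻¹ * g)⁻¹ = k₁⁻¹ * (g * b * g⁻¹) * k₁ by group, hg b hb hab]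
      have := EightNormal.mem_centralizer.1 (inv_mem hk₁) b hb
      simpa using this) with e | e
    · exact hgK (by simpa using mul_mem hk₁ e)
    · refine hagK ?_
      have h1 := mul_mem (h.conjK hk₁) e
      rwa [show a * k₁ * a * (a * (k₁⁻¹ * g)) = a * k₁ * (a * a) * k₁⁻¹ * g by group, h.asq,
        mul_one, mul_inv_cancel_right] at h1
  exact ⟨hk, hkM, h.cyclic_of_inverted hS hM hk hkM hinv⟩

/-- A commutator `[a, t]` centralizing `C_B(a)`. -/
theorem commutator_fixer [Finite S] (h : Inv B a) {v c ω t : S} (hv : v ∈ B)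
    (hvc : a * v * a = v * c) (hc : c ∈ B) (hac : a * c * a = c)
    (hc1 : c ≠ 1) (hω : ω ∈ B) (haω : a * ω * a = ω) (hω1 : ω ≠ 1) (hωc : ω ≠ c)
    (htω : t * ω * t⁻¹ = ω) (htc : t * c * t⁻¹ = c * ω)
    (hy : a * (v * (t * v * t⁻¹)) * a = v * (t * v * t⁻¹)) :
    (∀ b ∈ B, a * b * a = b →
        (a * (t * a * t⁻¹)) * b * (a * (t * a * t⁻¹))⁻¹ = b) ∧
      (a * (t * a * t⁻¹)) * v * (a * (t * a * t⁻¹))⁻¹ = v * ω ∧
      (a * (t * a * t⁻¹)) ∉ centralizer (B : Set S) ∧
      a * (a * (t * a * t⁻¹)) ∉ centralizer (B : Set S) := by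
  obtain ⟨y, hy0⟩ : ∃ y, y = v * (t * v * t⁻¹) := ⟨_, rfl⟩
  rw [← hy0] at hy
  have hyB : y ∈ B := hy0 ▸ mul_mem hv (h.eight.conj_mem t hv)
  have etv : t * v * t⁻¹ = v * y := by rw [hy0, ← mul_assoc, h.eight.sq v hv, one_mul]
  have hI : ∀ b ∈ B, a * b * a = b → b = 1 ∨ b = ω ∨ b = c ∨ b = ω * c := fun b hb hab =>
    mem_four h.cardI (h.memI.2 ⟨hω, haω⟩) (h.memI.2 ⟨hc, hac⟩) hω1 hc1 hωc (h.eight.sq ω hω)
      (h.memI.2 ⟨hb, hab⟩)
  have ht' : t⁻¹ * c * t = c * ω ∧ t⁻¹ * ω * t = ω := by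
    have e2 : t⁻¹ * ω * t = ω := by
      conv_lhs => rw [← htω]
      group
    refine ⟨?_, e2⟩
    have : c = (t⁻¹ * c * t) * (t⁻¹ * ω * t) := by
      conv_lhs => rw [show c = t⁻¹ * (t * c * t⁻¹) * t by group, htc]
      group
    rw [e2] at this
    calc t⁻¹ * c * t = (t⁻¹ * c * t) * ω * ω⁻¹ := by group
      _ = c * ω := by rw [← this, h.eight.inv_eq hω]
  have hinvI : ∀ b ∈ B, a * b * a = b → a * (t⁻¹ * b * t) * a = t⁻¹ * b * t := by
    intro b hb hab
    rcases hI b hb hab with rfl | rfl | rfl | rfl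
    · simp [h.asq]
    · rw [ht'.2, haω]
    · rw [ht'.1, h.conj_mul, hac, haω]
    · rw [show t⁻¹ * (ω * c) * t = (t⁻¹ * ω * t) * (t⁻¹ * c * t) by group, ht'.1, ht'.2,
        h.conj_mul, h.conj_mul, hac, haω]
  have hcalc : ∀ b : S, (a * (t * a * t⁻¹)) * b * (a * (t * a * t⁻¹))⁻¹ =
      a * (t * (a * (t⁻¹ * b * t) * a) * t⁻¹) * a := fun b => by
    rw [mul_inv_rev, mul_inv_rev, mul_inv_rev, inv_inv, h.ainv]
    group
  have hfix : ∀ b ∈ B, a * b * a = b →
      (a * (t * a * t⁻¹)) * b * (a * (t * a * t⁻¹))⁻¹ = b := by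
    intro b hb hab
    rw [hcalc, hinvI b hb hab, show t * (t⁻¹ * b * t) * t⁻¹ = b by group, hab]
  obtain ⟨y', hy'0⟩ : ∃ y', y' = t⁻¹ * y * t := ⟨_, rfl⟩
  have hy'B : y' ∈ B := by
    rw [hy'0]
    simpa using h.eight.conj_mem t⁻¹ hyB
  have ety' : t * y' * t⁻¹ = y := by rw [hy'0]; group
  have etv' : t⁻¹ * v * t = v * y' := by
    have : v = (t⁻¹ * v * t) * y' := by
      rw [hy'0]
      conv_lhs => rw [show v = t⁻¹ * (t * v * t⁻¹) * t by group, etv]
      group
    calc t⁻¹ * v * t = (t⁻¹ * v * t) * y' * y'⁻¹ := by group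
      _ = v * y' := by rw [← this, h.eight.inv_eq hy'B]
  have hval : (a * (t * a * t⁻¹)) * v * (a * (t * a * t⁻¹))⁻¹ = v * ω := by
    have hay' : a * y' * a = y' := hy'0 ▸ hinvI y hyB hy
    rw [hcalc, etv', h.conj_mul v y', hvc, hay',
      show t * (v * c * y') * t⁻¹ = (t * v * t⁻¹) * (t * c * t⁻¹) * (t * y' * t⁻¹) by group, etv,
      htc, ety', show v * y * (c * ω) * y = v * (y * (c * ω) * y) by group,
      h.eight.comm y hyB (c * ω) (mul_mem hc hω), mul_assoc (c * ω), h.eight.sq y hyB, mul_one,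
      h.conj_mul, h.conj_mul, hvc, hac, haω,
      show v * c * (c * ω) = v * (c * c) * ω by group, h.eight.sq c hc, mul_one]
  refine ⟨hfix, hval, fun e => ?_, fun e => ?_⟩
  · rw [EightNormal.mem_centralizer.1 e v hv] at hval
    exact hω1 (mul_eq_left.1 hval.symm)
  · rw [← mul_assoc, h.asq, one_mul] at e
    have := h.eight.centralizer_normal.conj_mem _ e t⁻¹
    rw [show t⁻¹ * (t * a * t⁻¹) * t⁻¹⁻¹ = a by group] at this
    exact h.not_mem_K this

/-- If `M ≠ B` and `S ≠ K ⟨a⟩` then `K / B` is cyclic. -/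
theorem cyclic_of_outside [Finite S] [B.Normal] (h : Inv B a) (hS : IsPGroup 2 S) {M : Subgroup S}
    (hM : Mid B a M) (hMB : ¬ M ≤ B) {t : S} (htK : t ∉ centralizer (B : Set S))
    (hatK : a * t ∉ centralizer (B : Set S)) :
    IsCyclic ((centralizer (B : Set S)).map (QuotientGroup.mk' B)) := by
  classical
  have := Fact.mk Nat.prime_two
  obtain ⟨v, c, hv, hvne, hc, hac, hc1, hvc, hmove⟩ := h.exists_vc
  obtain ⟨i, hi, hi1, hai, hic, hifix, -⟩ := h.exists_inv_sq hS hM hMB hv hvc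
  obtain ⟨H, hHn, hHB, hH⟩ := PGroups.exists_normal_le_card hS (k := 2) B
    (by rw [h.eight.card]; norm_num)
  have hmemI : ∀ x ∈ B ⊓ centralizer ({a} : Set S), x = 1 ∨ x = i ∨ x = c ∨ x = i * c := fun x hx =>
    mem_four h.cardI (h.memI.2 ⟨hi, hai⟩) (h.memI.2 ⟨hc, hac⟩) hi1 hc1 hic (h.eight.sq i hi) hx
  -- `C_B(a)` is invariant
  have hinvar : ∀ g : S, ∀ x ∈ B ⊓ centralizer ({a} : Set S),
      g * x * g⁻¹ ∈ B ⊓ centralizer ({a} : Set S) := by
    by_cases hiH : i ∈ H
    · have hHI : H ≤ B ⊓ centralizer ({a} : Set S) := by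
        intro x hx
        refine h.memI.2 ⟨hHB hx, (hmove x (hHB hx)).resolve_right fun e => ?_⟩
        have hax : a * x * a ∈ H := by
          have := hHn.conj_mem x hx a
          rwa [h.ainv] at this
        rw [e] at hax
        have hcH : c ∈ H := by simpa using H.mul_mem (H.inv_mem hx) hax
        have hxI : a * x * a = x := by
          rcases mem_four hH hiH hcH hi1 hc1 hic (h.eight.sq i hi) hx with e' | e' | e' | e' <;>
            rw [e'] <;> simp [h.conj_mul, hai, hac, h.asq]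
        rw [hxI] at e
        exact hc1 (mul_eq_left.1 e.symm)
      have := eq_of_le_of_card_ge hHI (by rw [h.cardI, hH]; norm_num)
      exact fun g x hx => this ▸ hHn.conj_mem x (this ▸ hx) g
    · obtain ⟨u, hu, hu1⟩ := ((H ⊓ center S).bot_or_exists_ne_one).resolve_left
        (PGroups.normal_inf_center_ne_bot hS H (fun e => by
          rw [e, Subgroup.card_bot] at hH; norm_num at hH))
      have hufix : ∀ g : S, g * u * g⁻¹ = u := fun g => by
        rw [mem_center_iff.1 hu.2 g, mul_inv_cancel_right]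
      have hauI : u ∈ B ⊓ centralizer ({a} : Set S) :=
        h.memI.2 ⟨hHB hu.1, by
          have := hufix a
          rwa [h.ainv] at this⟩
      have hui : i ≠ u := fun e => hiH (e ▸ hu.1)
      intro g x hx
      have hgx : g * x * g⁻¹ = x := by
        rcases mem_four h.cardI (h.memI.2 ⟨hi, hai⟩) hauI hi1 hu1 hui (h.eight.sq i hi) hx with
          e' | e' | e' | e' <;> rw [e']
        · simp
        · exact hifix g
        · exact hufix g
        · rw [show g * (i * u) * g⁻¹ = (g * i * g⁻¹) * (g * u * g⁻¹) by group, hifix, hufix]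
      rw [hgx]
      exact hx
  have htc : t * c * t⁻¹ = c ∨ t * c * t⁻¹ = c * i := by
    rcases hmemI _ (hinvar t c (h.memI.2 ⟨hc, hac⟩)) with e | e | e | e
    · exact absurd (conj_eq_one_iff.1 e) hc1
    · exact absurd (by
        calc c = t⁻¹ * (t * c * t⁻¹) * t := by group
          _ = t⁻¹ * (t * i * t⁻¹) * t := by rw [e, hifix]
          _ = i := by group) hic.symm
    · exact Or.inl e
    · exact Or.inr (e.trans (h.eight.comm i hi c hc))
  rcases htc with e | e
  · refine (h.fixer hS hM (g := t) (fun b hb hab => ?_) htK hatK).2.2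
    rcases hmemI b (h.memI.2 ⟨hb, hab⟩) with e' | e' | e' | e' <;> rw [e']
    · simp
    · exact hifix t
    · exact e
    · rw [show t * (i * c) * t⁻¹ = (t * i * t⁻¹) * (t * c * t⁻¹) by group, hifix, e]
  · have hy : a * (v * (t * v * t⁻¹)) * a = v * (t * v * t⁻¹) := by
      refine (h.memI.1 ((mem_or_mem_of_relIndex_two h.cardI_rel hv (fun e' => hvne (h.memI.1 e').2)
        (h.eight.conj_mem t hv)).resolve_left fun e' => ?_)).2
      have := hinvar t⁻¹ _ e'
      rw [show t⁻¹ * (t * v * t⁻¹) * t⁻¹⁻¹ = v by group] at this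
      exact hvne (h.memI.1 this).2
    obtain ⟨h1, -, h3, h4⟩ :=
      h.commutator_fixer hv hvc hc hac hc1 hi hai hi1 hic (hifix t) e hy
    exact (h.fixer hS hM h1 h3 h4).2.2

end Inv

end Cfsg.Agent.Lib.HaradaRank
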